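import Groth.Agent.CycDetLib.Rel
import Mathlib.Data.Fin.Tuple.Basic

/-!
Concatenating admissible tuples along a short exact sequence.
-/

namespace Groth.Agent.CycDetLib

open IsLocalRing CycDet Function

universe u v

variable {R : Type u} [CommRing R] [IsLocalRing R] {K L M : Type v} [AddCommGroup K] [Module R K]
  [AddCommGroup L] [Module R L] [AddCommGroup M] [Module R M] {k m n : ℕ}

/-- position `i` of the first block -/
def posL (h : k + m = n) (i : Fin k) : Fin n := Fin.cast h (Fin.castAdd m i)

/-- position `j` of the second block -/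
def posR (h : k + m = n) (j : Fin m) : Fin n := Fin.cast h (Fin.natAdd k j)

theorem pos_cases (h : k + m = n) (p : Fin n) :
    (∃ i, p = posL h i) ∨ ∃ j, p = posR h j := by
  subst h
  induction p using Fin.addCases with
  | left i => exact Or.inl ⟨i, rfl⟩
  | right j => exact Or.inr ⟨j, rfl⟩

theorem posL_inj (h : k + m = n) {i i' : Fin k} (e : posL h i = posL h i') : i = i' := by
  have := congr_arg Fin.val e
  simp [posL] at this
  exact Fin.ext this

theorem posR_inj (h : k + m = n) {j j' : Fin m} (e : posR h j = posR h j') : j = j' := by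
  have := congr_arg Fin.val e
  simp [posR] at this
  exact Fin.ext this

theorem posL_ne_posR (h : k + m = n) (i : Fin k) (j : Fin m) : posL h i ≠ posR h j := by
  intro e
  have := congr_arg Fin.val e
  simp [posL, posR] at this
  omega

/-- the concatenated tuple -/
def join (h : k + m = n) (x : Fin k → L) (y : Fin m → L) : Fin n → L :=
  Fin.append x y ∘ Fin.cast h.symm

theorem join_left (h : k + m = n) (x : Fin k → L) (y : Fin m → L) (i : Fin k) :
    join h x y (posL h i) = x i := by
  subst h; simp [join, posL]

theorem join_right (h : k + m = n) (x : Fin k → L) (y : Fin m → L) (j : Fin m) :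
    join h x y (posR h j) = y j := by
  subst h; simp [join, posR]

theorem eq_join (h : k + m = n) (z : Fin n → L) :
    z = join h (z ∘ posL h) (z ∘ posR h) := by
  funext p
  rcases pos_cases h p with ⟨i, rfl⟩ | ⟨j, rfl⟩
  · rw [join_left]; rfl
  · rw [join_right]; rfl

variable (f : K →ₗ[R] L) (g : L →ₗ[R] M)

theorem before_left (h : k + m = n) (x : Fin k → K) (y : Fin m → L) {i : ℕ} (hi : i ≤ k) :
    spanBefore R L (join h (f ∘ x) y) i = (spanBefore R K x i).map f := by
  rw [spanBefore, spanBefore, Submodule.map_span, ← Set.image_comp]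
  congr 1
  ext z
  constructor
  · rintro ⟨p, hp, rfl⟩
    rcases pos_cases h p with ⟨q, rfl⟩ | ⟨j, rfl⟩
    · exact ⟨q, by simpa [posL] using hp, (join_left h (f ∘ x) y q).symm⟩
    · simp [posR] at hp; omega
  · rintro ⟨q, hq, rfl⟩
    exact ⟨posL h q, by simpa [posL] using hq, join_left h (f ∘ x) y q⟩

theorem before_right (h : k + m = n) (x : Fin k → K) (y : Fin m → L)
    (hx : (Submodule.span R (Set.range x)).map f = LinearMap.ker g) (j : ℕ) :
    spanBefore R L (join h (f ∘ x) y) (k + j) = (spanBefore R M (g ∘ y) j).comap g := by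
  have e1 : spanBefore R L (join h (f ∘ x) y) (k + j) =
      spanBefore R L y j ⊔ LinearMap.ker g := by
    rw [← hx, Submodule.map_span, spanBefore, spanBefore, ← Submodule.span_union]
    congr 1
    ext z
    constructor
    · rintro ⟨p, hp, rfl⟩
      rcases pos_cases h p with ⟨q, rfl⟩ | ⟨q, rfl⟩
      · exact Or.inr ⟨x q, ⟨q, rfl⟩, (join_left h (f ∘ x) y q).symm⟩
      · exact Or.inl ⟨q, by simpa [posR] using hp, (join_right h (f ∘ x) y q).symm⟩
    · rintro (⟨q, hq, rfl⟩ | ⟨_, ⟨q, rfl⟩, rfl⟩)
      · exact ⟨posR h q, by simpa [posR] using hq, join_right h (f ∘ x) y q⟩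
      · exact ⟨posL h q, by simp [posL]; omega, join_left h (f ∘ x) y q⟩
  rw [e1, ← Submodule.comap_map_eq]
  congr 1
  rw [spanBefore, spanBefore, Submodule.map_span, ← Set.image_comp]

variable {f g}

theorem adm_join (h : k + m = n) {x : Fin k → K} {y : Fin m → L} (hx : IsAdmissible R K x)
    (hy : IsAdmissible R M (g ∘ y))
    (hker : (Submodule.span R (Set.range x)).map f = LinearMap.ker g) :
    IsAdmissible R L (join h (f ∘ x) y) := by
  intro p r hr
  rcases pos_cases h p with ⟨i, rfl⟩ | ⟨j, rfl⟩
  · rw [join_left, show ((posL h i : Fin n) : ℕ) = i from by simp [posL],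
      before_left f h x y i.2.le]
    exact ⟨r • x i, hx i r hr, map_smul _ _ _⟩
  · rw [join_right, show ((posR h j : Fin n) : ℕ) = k + j from by simp [posR],
      before_right f g h x y hker j, Submodule.mem_comap, map_smul]
    exact hy j r hr

theorem cls_join_congr (h : k + m = n) {x : Fin k → K} {y y' : Fin m → L}
    (hx : IsAdmissible R K x) (hy : IsAdmissible R M (g ∘ y)) (hyy : g ∘ y = g ∘ y')
    (hker : (Submodule.span R (Set.range x)).map f = LinearMap.ker g) :
    cls (⟨join h (f ∘ x) y, adm_join h hx hy hker⟩ : Adm R L n) =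
      cls (⟨join h (f ∘ x) y', adm_join h hx (hyy ▸ hy) hker⟩ : Adm R L n) := by
  let mix : ℕ → Fin m → L := fun p j => if (j : ℕ) < p then y' j else y j
  have hg : ∀ p, g ∘ mix p = g ∘ y := fun p => funext fun j => by
    simp only [mix, Function.comp_apply]
    split_ifs
    · exact (congrFun hyy j).symm
    · rfl
  have hstep : ∀ p, cls (⟨join h (f ∘ x) (mix p), adm_join h hx ((hg p).symm ▸ hy) hker⟩ :
      Adm R L n) = cls (⟨join h (f ∘ x) (mix (p + 1)),
        adm_join h hx ((hg (p + 1)).symm ▸ hy) hker⟩ : Adm R L n) := by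
    intro p
    by_cases hp : p < m
    · have := cls_scale (R := R)
        (⟨join h (f ∘ x) (mix p), adm_join h hx ((hg p).symm ▸ hy) hker⟩ : Adm R L n)
        ⟨join h (f ∘ x) (mix (p + 1)), adm_join h hx ((hg (p + 1)).symm ▸ hy) hker⟩
        (posR h ⟨p, hp⟩) 1 ?_ ?_
      · rwa [Units.val_one, map_one, one_smul] at this
      · intro q hq
        rcases pos_cases h q with ⟨i, rfl⟩ | ⟨j, rfl⟩
        · show join h (f ∘ x) (mix p) _ = join h (f ∘ x) (mix (p + 1)) _
          rw [join_left, join_left]
        · show join h (f ∘ x) (mix p) _ = join h (f ∘ x) (mix (p + 1)) _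
          have hjp : (j : ℕ) ≠ p := fun e => hq (congr_arg (posR h) (Fin.ext e))
          rw [join_right, join_right]
          simp only [mix]
          split_ifs <;> first | rfl | omega
      · show join h (f ∘ x) (mix p) _ - _ • join h (f ∘ x) (mix (p + 1)) _ ∈
          spanBefore R L (join h (f ∘ x) (mix p)) _
        rw [join_right, join_right, show ((posR h ⟨p, hp⟩ : Fin n) : ℕ) = k + p from by simp [posR],
          before_right f g h x (mix p) hker p, Submodule.mem_comap, Units.val_one, one_smul,
          map_sub, ← Function.comp_apply (f := g) (g := mix p),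
          ← Function.comp_apply (f := g) (g := mix (p + 1)), hg, hg, sub_self]
        exact zero_mem _
    · congr 2
      funext q
      rcases pos_cases h q with ⟨i, rfl⟩ | ⟨j, rfl⟩
      · rw [join_left, join_left]
      · rw [join_right, join_right]
        simp only [mix]
        split_ifs <;> first | rfl | omega
  have hall : ∀ p, cls (⟨join h (f ∘ x) (mix 0), adm_join h hx ((hg 0).symm ▸ hy) hker⟩ :
      Adm R L n) = cls (⟨join h (f ∘ x) (mix p), adm_join h hx ((hg p).symm ▸ hy) hker⟩ :
      Adm R L n) := by
    intro p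
    induction p with
    | zero => rfl
    | succ p ih => exact ih.trans (hstep p)
  have e0 : mix 0 = y := funext fun j => by simp [mix]
  have em : mix m = y' := funext fun j => by simp [mix]
  have := hall m
  simp only [e0, em] at this
  exact this

theorem join_swap_right (h : k + m = n) (x : Fin k → L) (y : Fin m → L) (a b : Fin m) :
    join h x (y ∘ Equiv.swap a b) = join h x y ∘ Equiv.swap (posR h a) (posR h b) := by
  funext p
  rcases pos_cases h p with ⟨i, rfl⟩ | ⟨j, rfl⟩
  · rw [join_left, Function.comp_apply,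
      Equiv.swap_apply_of_ne_of_ne (posL_ne_posR h i a) (posL_ne_posR h i b), join_left]
  · rw [join_right, Function.comp_apply, Function.comp_apply,
      Function.Injective.swap_apply (f := posR h) (fun _ _ e => posR_inj h e), join_right]

theorem join_swap_left (h : k + m = n) (x : Fin k → L) (y : Fin m → L) (a b : Fin k) :
    join h (x ∘ Equiv.swap a b) y = join h x y ∘ Equiv.swap (posL h a) (posL h b) := by
  funext p
  rcases pos_cases h p with ⟨i, rfl⟩ | ⟨j, rfl⟩
  · rw [join_left, Function.comp_apply, Function.comp_apply,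
      Function.Injective.swap_apply (f := posL h) (fun _ _ e => posL_inj h e), join_left]
  · rw [join_right, Function.comp_apply,
      Equiv.swap_apply_of_ne_of_ne (posL_ne_posR h a j).symm (posL_ne_posR h b j).symm, join_right]

section gamma

variable (hK : Module.length R K = k) (hfg : LinearMap.range f = LinearMap.ker g)
  (h : k + m = n) (σ : M → L) (hσ : ∀ z, g (σ z) = z)

include hK hfg in
theorem hker_of_nondeg (eK : Adm R K k) (hn : Nondeg R eK.1) :
    (Submodule.span R (Set.range eK.1)).map f = LinearMap.ker g := by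
  rw [span_eq_top_of_nondeg hK eK.2 hn, Submodule.map_top, hfg]

open Classical in
/-- the class of the concatenation with chosen lifts -/
noncomputable def concat (eK : Adm R K k) (eM : Adm R M m) : DetOfLen R L n :=
  if hn : Nondeg R eK.1 then
    cls ⟨join h (f ∘ eK.1) (σ ∘ eM.1), adm_join h eK.2
      (by rw [← Function.comp_assoc, show g ∘ σ = id from funext hσ]; exact eM.2)
      (hker_of_nondeg hK hfg eK hn)⟩
  else 0

theorem concat_eq {eK : Adm R K k} (hn : Nondeg R eK.1) (eM : Adm R M m) (eL : Adm R L n)
    (hl : ∀ i, eL.1 (posL h i) = f (eK.1 i)) (hr : ∀ j, g (eL.1 (posR h j)) = eM.1 j) :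
    concat hK hfg h σ hσ eK eM = cls eL := by
  rw [concat, dif_pos hn]
  have hy : g ∘ (σ ∘ eM.1) = g ∘ (eL.1 ∘ posR h) := funext fun j => by simp [hσ, hr]
  rw [cls_join_congr h eK.2
    (by rw [← Function.comp_assoc, show g ∘ σ = id from funext hσ]; exact eM.2) hy
    (hker_of_nondeg hK hfg eK hn)]
  congr 1
  apply Subtype.ext
  show join h (f ∘ eK.1) (eL.1 ∘ posR h) = eL.1
  conv_rhs => rw [eq_join h eL.1]
  congr 1
  exact funext fun i => (hl i).symm

theorem respectsRel_concat_right (eK : Adm R K k) :
    RespectsRel (concat hK hfg h σ hσ eK) := by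
  by_cases hn : Nondeg R eK.1
  · have hb : ∀ (y : Fin m → M) (j : ℕ),
        spanBefore R L (join h (f ∘ eK.1) (σ ∘ y)) (k + j) = (spanBefore R M y j).comap g := by
      intro y j
      rw [before_right f g h eK.1 (σ ∘ y) (hker_of_nondeg hK hfg eK hn) j,
        ← Function.comp_assoc, show g ∘ σ = id from funext hσ, Function.id_comp]
    refine ⟨fun e a hd => ?_, fun e e' a c hj hc => ?_, fun e e' a b hab hm he => ?_⟩ <;>
      simp only [concat, dif_pos hn]
    · refine cls_deg _ (posR h a) ?_
      show join h _ _ _ ∈ spanBefore R L (join h (f ∘ eK.1) (σ ∘ e.1)) _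
      rw [join_right, show ((posR h a : Fin n) : ℕ) = k + a from by simp [posR], hb,
        Submodule.mem_comap, Function.comp_apply, hσ]
      exact hd
    · refine cls_scale _ _ (posR h a) c (fun q hq => ?_) ?_
      · show join h (f ∘ eK.1) (σ ∘ e.1) q = join h (f ∘ eK.1) (σ ∘ e'.1) q
        rcases pos_cases h q with ⟨i, rfl⟩ | ⟨j, rfl⟩
        · rw [join_left, join_left]
        · rw [join_right, join_right, Function.comp_apply, Function.comp_apply,
            hj j (fun e => hq (congr_arg (posR h) e))]
      · show join h (f ∘ eK.1) (σ ∘ e.1) _ - (c : R) • join h (f ∘ eK.1) (σ ∘ e'.1) _ ∈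
          spanBefore R L (join h (f ∘ eK.1) (σ ∘ e.1)) _
        rw [join_right, join_right, show ((posR h a : Fin n) : ℕ) = k + a from by simp [posR],
          hb, Submodule.mem_comap, map_sub, map_smul, Function.comp_apply, Function.comp_apply,
          hσ, hσ]
        exact hc
    · refine cls_swap _ _ (posR h a) (posR h b) (by simp [posR]; omega) (fun r hr => ?_) ?_
      · show r • join h (f ∘ eK.1) (σ ∘ e.1) _ ∈ spanBefore R L (join h (f ∘ eK.1) (σ ∘ e.1)) _
        rw [join_right, show ((posR h b : Fin n) : ℕ) = k + b from by simp [posR],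
          hb, Submodule.mem_comap, map_smul, Function.comp_apply, hσ]
        exact hm r hr
      · show join h (f ∘ eK.1) (σ ∘ e'.1) = _
        rw [he, ← Function.comp_assoc, join_swap_right]
  · refine ⟨fun e a _ => ?_, fun e e' a c _ _ => ?_, fun e e' a b _ _ _ => ?_⟩ <;>
      simp [concat, dif_neg hn]

theorem respectsRel_concat_left (eM : Adm R M m) :
    RespectsRel (fun eK => concat hK hfg h σ hσ eK eM) := by
  refine ⟨fun e a hd => ?_, fun e e' a c hj hc => ?_, fun e e' a b hab hm he => ?_⟩
  · simp only [concat]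
    rw [dif_neg (fun hn => hn a hd)]
  · by_cases hn : Nondeg R e.1
    · simp only [concat, dif_pos hn, dif_pos ((nondeg_scale a c hj hc).1 hn)]
      refine cls_scale _ _ (posL h a) c (fun q hq => ?_) ?_
      · show join h (f ∘ e.1) (σ ∘ eM.1) q = join h (f ∘ e'.1) (σ ∘ eM.1) q
        rcases pos_cases h q with ⟨i, rfl⟩ | ⟨j, rfl⟩
        · rw [join_left, join_left, Function.comp_apply, Function.comp_apply,
            hj i (fun e => hq (congr_arg (posL h) e))]
        · rw [join_right, join_right]
      · show join h (f ∘ e.1) (σ ∘ eM.1) _ - (c : R) • join h (f ∘ e'.1) (σ ∘ eM.1) _ ∈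
          spanBefore R L (join h (f ∘ e.1) (σ ∘ eM.1)) _
        rw [join_left, join_left, show ((posL h a : Fin n) : ℕ) = a from by simp [posL],
          before_left f h e.1 _ a.2.le, Function.comp_apply, Function.comp_apply, ← map_smul,
          ← map_sub]
        exact ⟨_, hc, rfl⟩
    · simp [concat, dif_neg hn, dif_neg (fun h' => hn ((nondeg_scale a c hj hc).2 h'))]
  · by_cases hn : Nondeg R e.1
    · have hn' : Nondeg R e'.1 := he ▸ (nondeg_swap hab e.2 hm).1 hn
      simp only [concat, dif_pos hn, dif_pos hn']
      refine cls_swap _ _ (posL h a) (posL h b) (by simp [posL]; omega) (fun r hr => ?_) ?_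
      · show r • join h (f ∘ e.1) (σ ∘ eM.1) _ ∈ spanBefore R L (join h (f ∘ e.1) (σ ∘ eM.1)) _
        rw [join_left, show ((posL h b : Fin n) : ℕ) = b from by simp [posL],
          before_left f h e.1 _ b.2.le, Function.comp_apply, ← map_smul]
        exact ⟨_, hm r hr, rfl⟩
      · show join h (f ∘ e'.1) (σ ∘ eM.1) = _
        rw [he, ← Function.comp_assoc, join_swap_left]
    · simp [concat, dif_neg hn,
        dif_neg (fun h' => hn ((nondeg_swap hab e.2 hm).2 (he ▸ h')))]

end gamma

end Groth.Agent.CycDetLib
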