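import Groth.Agent.CycDetLib.Functional

/-!
The determinant of a module of length `l` is one-dimensional.
-/

namespace Groth.Agent.CycDetLib

open IsLocalRing CycDet Function

universe u v

variable {R : Type u} [CommRing R] [IsLocalRing R] {M : Type v} [AddCommGroup M] [Module R M]
  {l : ℕ}

theorem cls_ne_zero (hM : Module.length R M = l) (e : Adm R M l) (hn : Nondeg R e.1) :
    cls e ≠ 0 := by
  obtain ⟨D, hD, hD0⟩ := exists_functional l M hM
  obtain ⟨F, hF⟩ := exists_lift hD
  intro h
  exact hD0 e hn (by rw [← hF e, h, map_zero])

/-- the coordinate with respect to a nondegenerate symbol -/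
noncomputable def coordEquiv (hM : Module.length R M = l) (e : Adm R M l) (hn : Nondeg R e.1) :
    ResidueField R ≃ₗ[ResidueField R] DetOfLen R M l :=
  LinearEquiv.ofBijective (LinearMap.toSpanSingleton (ResidueField R) _ (cls e))
    ⟨smul_left_injective _ (cls_ne_zero hM e hn), fun x => exists_smul_cls hM e hn x⟩

theorem coordEquiv_apply (hM : Module.length R M = l) (e : Adm R M l) (hn : Nondeg R e.1)
    (c : ResidueField R) : coordEquiv hM e hn c = c • cls e := rfl

theorem coordEquiv_symm_smul (hM : Module.length R M = l) (e : Adm R M l) (hn : Nondeg R e.1)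
    (c : ResidueField R) : (coordEquiv hM e hn).symm (c • cls e) = c := by
  rw [LinearEquiv.symm_apply_eq, coordEquiv_apply]

end Groth.Agent.CycDetLib
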