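import Groth.Agent.CycDetLib.Rel
import Mathlib.Data.Fin.SuccPred
import Mathlib.Tactic.LinearCombination

/-!
A function on admissible tuples respecting the relations and nonzero on nondegenerate tuples.
-/

namespace Groth.Agent.CycDetLib

open IsLocalRing CycDet Function

universe u v

variable {R : Type u} [CommRing R] [IsLocalRing R] {M : Type v} [AddCommGroup M] [Module R M]
  {l : ℕ} (s : M)

/-- the tuple with entry `a` removed, modulo `s` -/
def omit' (e : Fin (l + 1) → M) (a : Fin (l + 1)) : Fin l → M ⧸ Submodule.span R {s} :=
  fun i => Submodule.Quotient.mk (e (a.succAbove i))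

/-- `s` enters the chain of `e` at `a` with unit coefficient `c` -/
def Enters (e : Fin (l + 1) → M) (a : Fin (l + 1)) (c : Rˣ) : Prop :=
  s - (c : R) • e a ∈ spanBefore R M e a

variable {s} {e : Fin (l + 1) → M} {a : Fin (l + 1)} {c : Rˣ}

theorem before_omit (h : Enters s e a c) (i : Fin l) :
    spanBefore R (M ⧸ Submodule.span R {s}) (omit' (R := R) s e a) i =
      (spanBefore R M e (a.succAbove i)).map (Submodule.span R {s}).mkQ := by
  rw [spanBefore, spanBefore, Submodule.map_span, ← Set.image_comp]
  apply le_antisymm
  · refine Submodule.span_mono ?_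
    rintro _ ⟨j, hj, rfl⟩
    exact ⟨a.succAbove j, Fin.strictMono_succAbove a hj, rfl⟩
  · rw [Submodule.span_le]
    rintro _ ⟨j, hj, rfl⟩
    by_cases hja : j = a
    · subst hja
      have hsub : (spanBefore R M e j).map (Submodule.span R {s}).mkQ ≤
          Submodule.span R (omit' (R := R) s e j '' {k : Fin l | (k : ℕ) < i}) := by
        rw [spanBefore, Submodule.map_span, Submodule.span_le]
        rintro _ ⟨_, ⟨k, hk, rfl⟩, rfl⟩
        obtain ⟨k', hk'⟩ := Fin.exists_succAbove_eq (show k ≠ j from by rintro rfl; simp at hk)
        subst hk'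
        refine Submodule.subset_span ⟨k', ?_, rfl⟩
        exact (Fin.strictMono_succAbove j).lt_iff_lt.1
          (show j.succAbove k' < j.succAbove i from lt_trans hk hj)
      have hm := hsub (Submodule.mem_map_of_mem h)
      rw [map_sub, Submodule.mkQ_apply, (Submodule.Quotient.mk_eq_zero _).2
        (Submodule.mem_span_singleton_self s), zero_sub, map_smul, ← neg_smul] at hm
      have hm' := Submodule.smul_mem _ (-((c⁻¹ : Rˣ) : R)) hm
      rw [smul_smul, neg_mul_neg, Units.inv_mul, one_smul] at hm'
      exact hm'
    · obtain ⟨j', rfl⟩ := Fin.exists_succAbove_eq hja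
      exact Submodule.subset_span ⟨j', (Fin.strictMono_succAbove a).lt_iff_lt.1 hj, rfl⟩

theorem adm_omit (h : Enters s e a c) (he : IsAdmissible R M e) :
    IsAdmissible R (M ⧸ Submodule.span R {s}) (omit' (R := R) s e a) := by
  intro i r hr
  rw [before_omit h i]
  exact ⟨_, he _ r hr, rfl⟩

theorem span_omit (h : Enters s e a c) (hs : Submodule.span R (Set.range e) = ⊤) :
    Submodule.span R (Set.range (omit' (R := R) s e a)) = ⊤ := by
  rw [eq_top_iff]
  intro q _
  obtain ⟨m, rfl⟩ := Submodule.mkQ_surjective _ q
  have hm : m ∈ Submodule.span R (Set.range e) := by rw [hs]; trivial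
  have hle : Submodule.span R (Set.range e) ≤
      (Submodule.span R (Set.range (omit' (R := R) s e a))).comap
        (Submodule.span R {s}).mkQ := by
    have hother : ∀ j, j ≠ a → e j ∈
        (Submodule.span R (Set.range (omit' (R := R) s e a))).comap
          (Submodule.span R {s}).mkQ := fun j hj => by
      obtain ⟨j', rfl⟩ := Fin.exists_succAbove_eq hj
      exact Submodule.subset_span ⟨j', rfl⟩
    rw [Submodule.span_le]
    rintro _ ⟨j, rfl⟩
    by_cases hj : j = a
    · subst hj
      have hb : spanBefore R M e j ≤
          (Submodule.span R (Set.range (omit' (R := R) s e j))).comap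
            (Submodule.span R {s}).mkQ := by
        rw [spanBefore, Submodule.span_le]
        rintro _ ⟨k, hk, rfl⟩
        exact hother k (by rintro rfl; simp at hk)
      have hm := hb h
      rw [Submodule.mem_comap, map_sub, Submodule.mkQ_apply, (Submodule.Quotient.mk_eq_zero _).2
        (Submodule.mem_span_singleton_self s), zero_sub, map_smul, ← neg_smul] at hm
      have hm' := Submodule.smul_mem _ (-((c⁻¹ : Rˣ) : R)) hm
      rw [smul_smul, neg_mul_neg, Units.inv_mul, one_smul] at hm'
      exact hm'
    · exact hother j hj
  exact hle hm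

theorem enters_unique (he : IsAdmissible R M e) (hn : Nondeg R e) (h : Enters s e a c)
    {a' : Fin (l + 1)} {c' : Rˣ} (h' : Enters s e a' c') :
    a = a' ∧ residue R ((c⁻¹ : Rˣ) : R) = residue R ((c'⁻¹ : Rˣ) : R) := by
  have key : ∀ {p q : Fin (l + 1)} {x y : Rˣ}, Enters s e p x → Enters s e q y → ¬ p < q := by
    intro p q x y hp hq hlt
    have hs : s ∈ spanBefore R M e q := by
      refine before_mono e (show (p : ℕ) + 1 ≤ q from hlt) ?_
      rw [before_succ]
      refine Submodule.mem_sup.2 ⟨_, hp, (x : R) • e p,
        Submodule.smul_mem _ _ (Submodule.mem_span_singleton_self _), sub_add_cancel _ _⟩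
    have := (spanBefore R M e q).sub_mem hs hq
    rw [sub_sub_cancel] at this
    have h2 := (spanBefore R M e q).smul_mem ((y⁻¹ : Rˣ) : R) this
    rw [smul_smul, Units.inv_mul, one_smul] at h2
    exact hn q h2
  have haa : a = a' := le_antisymm (not_lt.1 (key h' h)) (not_lt.1 (key h h'))
  refine ⟨haa, ?_⟩
  subst haa
  have hd := (spanBefore R M e a).sub_mem h h'
  rw [sub_sub_sub_cancel_left, ← sub_smul] at hd
  have hnu : residue R ((c' : R) - c) = 0 := by
    rw [residue_eq_zero_iff, mem_maximalIdeal, mem_nonunits_iff]
    intro hu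
    have h2 := (spanBefore R M e a).smul_mem ((hu.unit⁻¹ : Rˣ) : R) hd
    rw [smul_smul, IsUnit.val_inv_mul, one_smul] at h2
    exact hn a h2
  rw [map_sub, sub_eq_zero] at hnu
  have e1 : residue R ((c⁻¹ : Rˣ) : R) * residue R (c : R) = 1 := by
    rw [← map_mul, Units.inv_mul, map_one]
  have e2 : residue R ((c'⁻¹ : Rˣ) : R) * residue R (c : R) = 1 := by
    rw [← hnu, ← map_mul, Units.inv_mul, map_one]
  exact mul_right_cancel₀ (right_ne_zero_of_mul_eq_one e1) (e1.trans e2.symm)

open Classical in
/-- the functional built from one on `M/⟨s⟩` -/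
noncomputable def extendFun (s : M) (D : Adm R (M ⧸ Submodule.span R {s}) l → ResidueField R)
    (e : Adm R M (l + 1)) : ResidueField R :=
  if h : Nondeg R e.1 ∧ ∃ p : Fin (l + 1) × Rˣ, Enters s e.1 p.1 p.2 then
    (-1) ^ (h.2.choose.1 : ℕ) * residue R ((h.2.choose.2⁻¹ : Rˣ) : R) *
      D ⟨omit' s e.1 h.2.choose.1, adm_omit h.2.choose_spec e.2⟩
  else 0

theorem extendFun_eq (D : Adm R (M ⧸ Submodule.span R {s}) l → ResidueField R)
    (e : Adm R M (l + 1)) (hn : Nondeg R e.1) {a : Fin (l + 1)} {c : Rˣ} (h : Enters s e.1 a c) :
    extendFun s D e = (-1) ^ (a : ℕ) * residue R ((c⁻¹ : Rˣ) : R) *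
      D ⟨omit' s e.1 a, adm_omit h e.2⟩ := by
  have hh : Nondeg R e.1 ∧ ∃ p : Fin (l + 1) × Rˣ, Enters s e.1 p.1 p.2 := ⟨hn, ⟨(a, c), h⟩⟩
  rw [extendFun, dif_pos hh]
  obtain ⟨ha, hc⟩ := enters_unique e.2 hn h hh.2.choose_spec
  simp only [← ha, ← hc]

theorem extendFun_deg (D : Adm R (M ⧸ Submodule.span R {s}) l → ResidueField R)
    (e : Adm R M (l + 1)) (hn : ¬ Nondeg R e.1) : extendFun s D e = 0 := by
  rw [extendFun, dif_neg (fun h => hn h.1)]

theorem exists_enters (hM : Module.length R M = (l + 1 : ℕ)) (hs0 : s ≠ 0) (e : Adm R M (l + 1))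
    (hn : Nondeg R e.1) : ∃ (a : Fin (l + 1)) (c : Rˣ), Enters s e.1 a c := by
  obtain ⟨a, c, -, h⟩ := exists_enter (k := 0) e.2 (span_eq_top_of_nondeg hM e.2 hn)
    (by rw [before_zero]; simpa using hs0)
  exact ⟨a, c, h⟩

theorem swap_succAbove {a b : Fin (l + 1)} (hab : (b : ℕ) + 1 = a) (i : Fin l) :
    Equiv.swap a b (b.succAbove i) = a.succAbove i := by
  rcases lt_trichotomy (i : ℕ) b with hi | hi | hi
  · rw [Fin.succAbove_of_castSucc_lt _ _ (show i.castSucc < b from hi),
      Fin.succAbove_of_castSucc_lt _ _ (show (i : ℕ) < a by omega)]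
    refine Equiv.swap_apply_of_ne_of_ne ?_ ?_ <;>
      rw [Ne, Fin.ext_iff, Fin.val_castSucc] <;> omega
  · rw [Fin.succAbove_of_le_castSucc _ _ (show (b : ℕ) ≤ i by omega),
      Fin.succAbove_of_castSucc_lt _ _ (show (i : ℕ) < a by omega),
      show i.succ = a from Fin.ext (by rw [Fin.val_succ]; omega), Equiv.swap_apply_left]
    exact Fin.ext (by rw [Fin.val_castSucc]; omega)
  · rw [Fin.succAbove_of_le_castSucc _ _ (show (b : ℕ) ≤ i by omega),
      Fin.succAbove_of_le_castSucc _ _ (show (a : ℕ) ≤ i by omega)]
    refine Equiv.swap_apply_of_ne_of_ne ?_ ?_ <;>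
      rw [Ne, Fin.ext_iff, Fin.val_succ] <;> omega

theorem respectsRel_extendFun (hM : Module.length R M = (l + 1 : ℕ)) (hs0 : s ≠ 0)
    {D : Adm R (M ⧸ Submodule.span R {s}) l → ResidueField R} (hD : RespectsRel D) :
    RespectsRel (extendFun s D) := by
  refine ⟨fun e a h => extendFun_deg D e fun hn => hn a h, ?_, ?_⟩
  · -- relation (b)
    intro e e' j u hj hu
    have hsp := before_scale j u hj hu
    by_cases hn : Nondeg R e.1
    · have hn' := (nondeg_scale j u hj hu).1 hn
      obtain ⟨a, c, h⟩ := exists_enters hM hs0 e hn
      by_cases haj : a = j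
      · subst haj
        have h' : Enters s e'.1 a (c * u) := by
          unfold Enters
          rw [← hsp a, Units.val_mul, mul_smul]
          have := (spanBefore R M e.1 a).add_mem h ((spanBefore R M e.1 a).smul_mem (c : R) hu)
          rwa [smul_sub, sub_add_sub_cancel] at this
        rw [extendFun_eq D e hn h, extendFun_eq D e' hn' h']
        have hom : omit' (R := R) s e.1 a = omit' (R := R) s e'.1 a := funext fun i => by
          unfold omit'; rw [hj _ (Fin.succAbove_ne a i)]
        simp only [hom, smul_eq_mul, mul_inv_rev, Units.val_mul, map_mul]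
        have e1 : residue R (u : R) * residue R ((u⁻¹ : Rˣ) : R) = 1 := by
          rw [← map_mul, Units.mul_inv, map_one]
        linear_combination (-((-1) ^ (a : ℕ) * residue R ((c⁻¹ : Rˣ) : R) *
          D ⟨omit' s e'.1 a, adm_omit h' e'.2⟩)) * e1
      · have h' : Enters s e'.1 a c := by
          unfold Enters
          rw [← hsp a, ← hj a haj]
          exact h
        obtain ⟨j', rfl⟩ := Fin.exists_succAbove_eq (Ne.symm haj)
        have := hD.scale ⟨omit' s e.1 a, adm_omit h e.2⟩ ⟨omit' s e'.1 a, adm_omit h' e'.2⟩ j' u
          (fun i hi => by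
            show Submodule.Quotient.mk _ = Submodule.Quotient.mk _
            rw [hj _ (fun e => hi (Fin.succAbove_right_injective e))]) (by
            show _ ∈ spanBefore R _ (omit' (R := R) s e.1 a) j'
            rw [before_omit h j']
            exact ⟨_, hu, rfl⟩)
        rw [extendFun_eq D e hn h, extendFun_eq D e' hn' h', this, smul_eq_mul, smul_eq_mul]
        ring
    · rw [extendFun_deg D e hn, extendFun_deg D e' (fun h => hn ((nondeg_scale j u hj hu).2 h)),
        smul_zero]
  · -- relation (c)
    intro e e' q b hqb hm he'
    by_cases hn : Nondeg R e.1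
    · have hn' : Nondeg R e'.1 := he' ▸ (nondeg_swap hqb e.2 hm).1 hn
      obtain ⟨a, c, h⟩ := exists_enters hM hs0 e hn
      by_cases haq : a = q
      · subst haq
        -- s = c e_q + (element of before b + R e_b)
        have h1 : s - (c : R) • e.1 a ∈ spanBefore R M e.1 b ⊔ Submodule.span R {e.1 b} := by
          have := h
          unfold Enters at this
          rwa [← hqb, before_succ] at this
        rcases mem_or_sub_unit_mem (e.2 b) h1 with hlow | ⟨d, hd⟩
        · have h' : Enters s e'.1 b c := by
            unfold Enters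
            rw [he', before_swap_le e.1 hqb le_rfl, Function.comp_apply, Equiv.swap_apply_right]
            exact hlow
          rw [extendFun_eq D e hn h, extendFun_eq D e' hn' h']
          have hom : omit' (R := R) s e'.1 b = omit' (R := R) s e.1 a := funext fun i => by
            unfold omit'
            rw [he', Function.comp_apply, swap_succAbove hqb]
          simp only [hom]
          rw [← hqb, pow_succ]
          ring
        · have h' : Enters s e'.1 a d := by
            unfold Enters
            rw [he', before_swap_mid e.1 hqb, Function.comp_apply, Equiv.swap_apply_left]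
            refine Submodule.mem_sup.2 ⟨_, hd, (c : R) • e.1 a,
              Submodule.smul_mem _ _ (Submodule.mem_span_singleton_self _), by abel⟩
          obtain ⟨j, hj⟩ := Fin.exists_succAbove_eq (show b ≠ a by rintro rfl; omega)
          have hjb : (j : ℕ) = b := by
            rcases lt_or_ge j.castSucc a with hlt | hge
            · rw [Fin.succAbove_of_castSucc_lt _ _ hlt] at hj
              rw [← hj]; rfl
            · rw [Fin.succAbove_of_le_castSucc _ _ hge] at hj
              have h3 : (a : ℕ) ≤ j := hge
              have h4 : (j : ℕ) + 1 = b := by rw [← hj]; rfl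
              omega
          let u : Rˣ := -(d⁻¹ * c)
          have := hD.scale ⟨omit' s e.1 a, adm_omit h e.2⟩ ⟨omit' s e'.1 a, adm_omit h' e'.2⟩ j u
            (fun i hi => by
              show Submodule.Quotient.mk _ = Submodule.Quotient.mk _
              rw [he', swap_apply_ne e.1 (Fin.succAbove_ne a i)
                (fun e => hi (Fin.succAbove_right_injective (e.trans hj.symm)))]) (by
              show omit' (R := R) s e.1 a j - (u : R) • omit' (R := R) s e'.1 a j ∈
                spanBefore R _ (omit' (R := R) s e.1 a) j
              rw [before_omit h j]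
              unfold omit'
              rw [hj, he', Function.comp_apply, Equiv.swap_apply_right]
              refine ⟨-((d⁻¹ : Rˣ) : R) • (s - (c : R) • e.1 a - (d : R) • e.1 b),
                Submodule.smul_mem _ _ hd, ?_⟩
              rw [map_smul, map_sub, map_sub, map_smul, map_smul, Submodule.mkQ_apply,
                (Submodule.Quotient.mk_eq_zero _).2 (Submodule.mem_span_singleton_self s)]
              simp only [Submodule.mkQ_apply, u, Units.val_neg, Units.val_mul]
              rw [smul_sub, smul_sub, smul_smul, smul_smul, smul_zero, neg_mul, neg_mul,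
                Units.inv_mul, neg_smul, neg_smul, one_smul]
              abel)
          rw [extendFun_eq D e hn h, extendFun_eq D e' hn' h', this, smul_eq_mul]
          simp only [u, Units.val_neg, Units.val_mul, map_neg, map_mul]
          have e1 : residue R (c : R) * residue R ((c⁻¹ : Rˣ) : R) = 1 := by
            rw [← map_mul, Units.mul_inv, map_one]
          linear_combination (-((-1) ^ (a : ℕ) * residue R ((d⁻¹ : Rˣ) : R) *
            D ⟨omit' s e'.1 a, adm_omit h' e'.2⟩)) * e1
      · by_cases hab : a = b
        · subst hab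
          have h' : Enters s e'.1 q c := by
            unfold Enters
            rw [he', before_swap_mid e.1 hqb, Function.comp_apply, Equiv.swap_apply_left]
            exact Submodule.mem_sup_left h
          rw [extendFun_eq D e hn h, extendFun_eq D e' hn' h']
          have hom : omit' (R := R) s e'.1 q = omit' (R := R) s e.1 a := funext fun i => by
            unfold omit'
            rw [he', Function.comp_apply, ← swap_succAbove hqb, Equiv.swap_apply_self]
          simp only [hom]
          rw [← hqb, pow_succ]
          ring
        · have hb' : spanBefore R M e'.1 a = spanBefore R M e.1 a := by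
            rw [he', before_swap_of_ne e.1 hqb (fun h => haq (Fin.ext h))]
          have h' : Enters s e'.1 a c := by
            unfold Enters
            rw [hb', he', swap_apply_ne e.1 haq hab]
            exact h
          obtain ⟨q', hq'⟩ := Fin.exists_succAbove_eq (Ne.symm haq)
          obtain ⟨b', hb''⟩ := Fin.exists_succAbove_eq (Ne.symm hab)
          have hlt : b' < q' := (Fin.strictMono_succAbove a).lt_iff_lt.1 (by
            rw [hq', hb'']; exact Fin.lt_def.2 (by omega))
          have hadj : (b' : ℕ) + 1 = q' := by
            by_contra hne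
            have hlt2 : (b' : ℕ) + 1 < q' := by
              have : (b' : ℕ) < q' := hlt
              omega
            let m : Fin l := ⟨(b' : ℕ) + 1, by omega⟩
            have h1 := Fin.strictMono_succAbove a (show b' < m from Nat.lt_succ_self _)
            have h2 := Fin.strictMono_succAbove a (show m < q' from hlt2)
            rw [hb'', Fin.lt_def] at h1
            rw [hq', Fin.lt_def] at h2
            omega
          have := hD.swap ⟨omit' s e.1 a, adm_omit h e.2⟩ ⟨omit' s e'.1 a, adm_omit h' e'.2⟩ q' b'
            hadj (fun r hr => by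
              show r • omit' (R := R) s e.1 a q' ∈ _
              rw [before_omit h b']
              unfold omit'
              rw [hq', hb'']
              exact ⟨_, hm r hr, rfl⟩) (by
              funext i
              show Submodule.Quotient.mk _ = Submodule.Quotient.mk _
              rw [he', Function.comp_apply, ← hq', ← hb'',
                ← (Fin.succAbove_right_injective).swap_apply])
          rw [extendFun_eq D e hn h, extendFun_eq D e' hn' h', this]
          ring
    · rw [extendFun_deg D e hn, extendFun_deg D e' (fun h =>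
        hn ((nondeg_swap hqb e.2 hm).2 (he' ▸ h))), neg_zero]

theorem exists_functional : ∀ (l : ℕ) (M : Type v) [AddCommGroup M] [Module R M],
    Module.length R M = l →
    ∃ D : Adm R M l → ResidueField R, RespectsRel D ∧ ∀ e, Nondeg R e.1 → D e ≠ 0 := by
  intro l
  induction l with
  | zero =>
    intro M _ _ _
    exact ⟨fun _ => 1, ⟨fun _ a => a.elim0, fun _ _ a => a.elim0, fun _ _ a => a.elim0⟩,
      fun _ _ => one_ne_zero⟩
  | succ l ih =>
    intro M _ _ hM
    have : Nontrivial M := by
      by_contra h
      rw [not_nontrivial_iff_subsingleton] at h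
      rw [Module.length_eq_zero] at hM
      exact Nat.succ_ne_zero l (by exact_mod_cast hM.symm)
    have hfl : IsFiniteLength R M :=
      Module.length_ne_top_iff.1 (by rw [hM]; exact ENat.coe_ne_top _)
    obtain ⟨_, _⟩ := isFiniteLength_iff_isNoetherian_isArtinian.1 hfl
    obtain ⟨s, hs0, hs⟩ := exists_socle (R := R) (M := M)
    have h1 : Module.length R (Submodule.span R {s}) = 1 := by
      have := length_sup_singleton (R := R) (N := (⊥ : Submodule R M)) (x := s)
        (fun r hr => by simp [hs r hr]) (by simpa using hs0)
      rwa [bot_sup_eq, Module.length_bot, zero_add] at this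
    have hq : Module.length R (M ⧸ Submodule.span R {s}) = l := by
      have h := Module.length_eq_add_of_exact (Submodule.span R {s}).subtype
        (Submodule.span R {s}).mkQ (Submodule.injective_subtype _) (Submodule.mkQ_surjective _)
        (LinearMap.exact_subtype_mkQ _)
      rw [hM, h1, Nat.cast_add, Nat.cast_one, add_comm] at h
      exact (WithTop.add_left_cancel ENat.one_ne_top h).symm
    obtain ⟨D, hD, hD0⟩ := ih (M ⧸ Submodule.span R {s}) hq
    refine ⟨extendFun s D, respectsRel_extendFun hM hs0 hD, fun e hn => ?_⟩
    obtain ⟨a, c, h⟩ := exists_enters hM hs0 e hn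
    rw [extendFun_eq D e hn h]
    refine mul_ne_zero (mul_ne_zero (pow_ne_zero _ (neg_ne_zero.2 one_ne_zero)) ?_)
      (hD0 _ (nondeg_of_span hq (adm_omit h e.2)
        (span_omit h (span_eq_top_of_nondeg hM e.2 hn))))
    have e1 : residue R ((c⁻¹ : Rˣ) : R) * residue R (c : R) = 1 := by
      rw [← map_mul, Units.inv_mul, map_one]
    exact left_ne_zero_of_mul_eq_one e1

end Groth.Agent.CycDetLib
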