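import Groth.Agent.CycDetLib.GoodOrd

/-!
The length of a cokernel and the ratio of symbols.
-/

set_option autoImplicit false
set_option linter.unusedSectionVars false

namespace Groth.Agent.CycDetLib

open IsLocalRing CycDet Function Groth.Agent.LenLib

universe u

variable {R : Type u} [CommRing R] [IsLocalRing R] [IsNoetherianRing R] {q : PrimeSpectrum R}
  {N : Type u} [AddCommGroup N] [Module R N]

theorem good_of_steps {l : ℕ} {z : Fin l → N}
    (h : ∀ i : Fin l, Nonempty (CycHerb.StepQuot R z i ≃ₗ[R] (R ⧸ q.asIdeal))) : Good q z := by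
  have key : ∀ (i : Fin l) (r : R), r • z i ∈ spanBefore R N z i ↔ r ∈ q.asIdeal := by
    intro i r
    obtain ⟨e⟩ := h i
    let zi : ↥(spanBefore R N z ((i : ℕ) + 1)) := ⟨z i, mem_before z (Nat.lt_succ_self _)⟩
    constructor
    · intro hr
      obtain ⟨v, hv⟩ := e.surjective 1
      obtain ⟨⟨m, hm⟩, rfl⟩ := Submodule.Quotient.mk_surjective _ v
      have hm' := hm
      rw [before_succ] at hm'
      obtain ⟨y, hy, _, hw, rfl⟩ := Submodule.mem_sup.1 hm'
      obtain ⟨a, rfl⟩ := Submodule.mem_span_singleton.1 hw
      have h0 : r • (Submodule.Quotient.mk (⟨y + a • z i, hm⟩) : CycHerb.StepQuot R z i) = 0 := by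
        rw [← Submodule.Quotient.mk_smul, Submodule.Quotient.mk_eq_zero]
        show r • (y + a • z i) ∈ spanBefore R N z i
        rw [smul_add, smul_comm r a]
        exact add_mem (Submodule.smul_mem _ _ hy) (Submodule.smul_mem _ _ hr)
      have h1 := congrArg e h0
      rw [map_smul, map_zero, hv, Algebra.smul_def, mul_one, Ideal.Quotient.algebraMap_eq,
        Ideal.Quotient.eq_zero_iff_mem] at h1
      exact h1
    · intro hr
      have h0 : r • (Submodule.Quotient.mk zi : CycHerb.StepQuot R z i) = 0 := by
        apply e.injective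
        rw [map_smul, map_zero, Algebra.smul_def, Ideal.Quotient.algebraMap_eq,
          Ideal.Quotient.eq_zero_iff_mem.2 hr, zero_mul]
      rw [← Submodule.Quotient.mk_smul, Submodule.Quotient.mk_eq_zero] at h0
      exact h0
  exact ⟨fun i r hr => (key i r).2 hr, fun i r hr => (key i r).1 hr⟩

theorem ann_le_of_good [Module.Finite R N] {l : ℕ} {z : Fin l → N} (hz : Good q z)
    (hs : Submodule.span R (Set.range z) = ⊤) :
    ∀ p ∈ Module.support R N, q.asIdeal ≤ p.asIdeal := by
  intro p hp r hr
  have h : ∀ k, ∀ m ∈ spanBefore R N z k, r ^ k • m = 0 := by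
    intro k
    induction k with
    | zero => intro m hm; rw [before_zero, Submodule.mem_bot] at hm; rw [hm, smul_zero]
    | succ k ih =>
      intro m hm
      rw [pow_succ, mul_smul]
      refine ih _ ?_
      by_cases hk : k < l
      · rw [show k + 1 = ((⟨k, hk⟩ : Fin l) : ℕ) + 1 from rfl, before_succ] at hm
        obtain ⟨y, hy, _, hw, rfl⟩ := Submodule.mem_sup.1 hm
        obtain ⟨a, rfl⟩ := Submodule.mem_span_singleton.1 hw
        rw [smul_add, smul_comm r a]
        exact add_mem (Submodule.smul_mem _ _ hy) (Submodule.smul_mem _ _ (hz.kill ⟨k, hk⟩ r hr))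
      · rw [before_of_ge z (by omega), ← before_of_ge z (i := k) (by omega)] at hm
        exact Submodule.smul_mem _ _ hm
  refine p.2.mem_of_pow_mem l (Module.annihilator_le_of_mem_support hp (Module.mem_annihilator.2 fun m => ?_))
  exact h l m (by rw [before_of_ge z le_rfl, hs]; trivial)

theorem length_loc_eq {l : ℕ} {z : Fin l → N} (hz : Good q z) (hs : Submodule.span R (Set.range z) = ⊤) :
    Module.length (Localization.AtPrime q.asIdeal) (LocalizedModule q.asIdeal.primeCompl N) = l := by
  have htop : spanBefore (Localization.AtPrime q.asIdeal) (LocalizedModule q.asIdeal.primeCompl N) (locT q z) l = ⊤ := by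
    rw [eq_top_iff]
    rintro x -
    obtain ⟨⟨m, s⟩, rfl⟩ := IsLocalizedModule.mk'_surjective q.asIdeal.primeCompl
      (LocalizedModule.mkLinearMap q.asIdeal.primeCompl N) x
    have hm := mem_before_loc (q := q) (z := z) (i := l) (m := m) (by rw [before_of_ge z le_rfl, hs]; trivial)
    obtain ⟨v, hv⟩ := (IsLocalization.map_units (Localization.AtPrime q.asIdeal) s).exists_left_inv
    have : (Function.uncurry (IsLocalizedModule.mk' (LocalizedModule.mkLinearMap q.asIdeal.primeCompl N))) (m, s) =
        v • LocalizedModule.mkLinearMap q.asIdeal.primeCompl N m := by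
      show IsLocalizedModule.mk' _ m s = _
      rw [← IsLocalizedModule.mk'_cancel' (LocalizedModule.mkLinearMap q.asIdeal.primeCompl N) m s,
        Submonoid.smul_def, ← IsScalarTower.algebraMap_smul (Localization.AtPrime q.asIdeal) (s : R), smul_smul,
        hv, one_smul]
    rw [this]
    exact Submodule.smul_mem _ _ hm
  rw [← Module.length_top, ← htop]
  exact length_before_eq hz.adm hz.nondeg le_rfl

variable {M : Type u} [AddCommGroup M] [Module R M] (φ : M →ₗ[R] N)

theorem injective_mk {l : ℕ} {z : Fin l → M} (hz : Good q z) (hs : Submodule.span R (Set.range z) = ⊤) :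
    Injective (LocalizedModule.mkLinearMap q.asIdeal.primeCompl M) := by
  rw [injective_iff_map_eq_zero]
  intro m hm
  obtain ⟨s, hsm⟩ := (IsLocalizedModule.eq_zero_iff q.asIdeal.primeCompl
    (LocalizedModule.mkLinearMap q.asIdeal.primeCompl M)).1 hm
  have := hz.mem_of_smul (s := (s : R)) s.2 (j := 0) l (Nat.zero_le l) m
    (by rw [before_of_ge z le_rfl, hs]; trivial) (by rw [before_zero, Submodule.mem_bot]; exact hsm)
  rwa [before_zero, Submodule.mem_bot] at this

theorem injective_iff [Module.Finite R M] [Module.Finite R N] {l : ℕ} {x : Fin l → M} {y : Fin l → N}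
    (hx : Good q x) (hxs : Submodule.span R (Set.range x) = ⊤) (hy : Good q y)
    (hys : Submodule.span R (Set.range y) = ⊤) :
    Injective φ ↔ Bijective (LocalizedModule.map q.asIdeal.primeCompl φ) := by
  constructor
  · intro h
    have hinj : Injective (LocalizedModule.map q.asIdeal.primeCompl φ) :=
      IsLocalizedModule.map_injective q.asIdeal.primeCompl (LocalizedModule.mkLinearMap _ _)
        (LocalizedModule.mkLinearMap _ _) φ h
    refine ⟨hinj, LinearMap.range_eq_top.1 (eq_top_of_length_eq (n := l) (length_loc_eq hy hys) ?_)⟩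
    rw [← (LinearEquiv.ofInjective _ hinj).length_eq, length_loc_eq hx hxs]
  · intro h a b hab
    refine injective_mk hx hxs (h.1 ?_)
    rw [show LocalizedModule.map q.asIdeal.primeCompl φ (LocalizedModule.mkLinearMap _ M a) =
        LocalizedModule.mkLinearMap _ N (φ a) from IsLocalizedModule.map_apply q.asIdeal.primeCompl
          (LocalizedModule.mkLinearMap _ M) (LocalizedModule.mkLinearMap _ N) φ a,
      show LocalizedModule.map q.asIdeal.primeCompl φ (LocalizedModule.mkLinearMap _ M b) =
        LocalizedModule.mkLinearMap _ N (φ b) from IsLocalizedModule.map_apply q.asIdeal.primeCompl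
          (LocalizedModule.mkLinearMap _ M) (LocalizedModule.mkLinearMap _ N) φ b, hab]

theorem good_comp {l : ℕ} {x : Fin l → M} (hx : Good q x) (h : Injective φ) :
    Good q (fun i => φ (x i)) := by
  have e : ∀ i : ℕ, spanBefore R N (fun i => φ (x i)) i = (spanBefore R M x i).map φ := fun i => by
    rw [spanBefore, spanBefore, Submodule.map_span, ← Set.image_comp]
    rfl
  refine ⟨fun i r hr => ?_, fun i r hr => ?_⟩
  · rw [e, ← map_smul]; exact Submodule.mem_map_of_mem (hx.kill i r hr)
  · rw [e, ← map_smul] at hr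
    obtain ⟨m, hm, he⟩ := hr
    exact hx.free i r (h he ▸ hm)

theorem length_coker_eq [Module.Finite R N] (hq : ringKrullDim (R ⧸ q.asIdeal) = 1) {l : ℕ} {x : Fin l → M}
    {y : Fin l → N} (hx : Good q x) (hxs : Submodule.span R (Set.range x) = ⊤) (hy : Good q y)
    (hys : Submodule.span R (Set.range y) = ⊤) (h : Injective φ) (l' : ℕ) (hl : l' = l)
    (ex ey : CycDet.Adm (Localization.AtPrime q.asIdeal) (LocalizedModule q.asIdeal.primeCompl N) l')
    (f : q.asIdeal.ResidueField)
    (hex : ex.1 = fun i => LocalizedModule.mkLinearMap q.asIdeal.primeCompl N (φ (x (Fin.cast hl i))))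
    (hey : ey.1 = fun i => LocalizedModule.mkLinearMap q.asIdeal.primeCompl N (y (Fin.cast hl i)))
    (hf : cls ex = f • cls ey) :
    ∃ n : ℕ, Module.length R (N ⧸ LinearMap.range φ) = n ∧
      (n : ℤ) = CycAlg.ordFrac (R ⧸ q.asIdeal) q.asIdeal.ResidueField f := by
  subst hl
  have hL := length_loc_eq hy hys
  have hsupp := ann_le_of_good hy hys
  obtain ⟨hzx, hzy, g, -, hg, hord⟩ := same_all q hq _ N hsupp hL _ y (good_comp φ hx h) hy
  obtain rfl : ex = ⟨locT q (fun i => φ (x i)), hzx.adm⟩ := Subtype.ext (hex.trans rfl)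
  obtain rfl : ey = ⟨locT q y, hzy.adm⟩ := Subtype.ext (hey.trans rfl)
  have hfg : f = g := smul_left_injective _ (cls_ne_zero hL ⟨locT q y, hzy.adm⟩ hzy.nondeg) (hf.symm.trans hg)
  have hrange : Submodule.span R (Set.range fun i => φ (x i)) = LinearMap.range φ := by
    rw [show (fun i => φ (x i)) = φ ∘ x from rfl, Set.range_comp, ← Submodule.map_span, hxs, Submodule.map_top]
  have hfin := coker_ne_top hq hsupp hL hzx
  rw [hrange] at hfin
  refine ⟨(Module.length R (N ⧸ LinearMap.range φ)).toNat, (ENat.natCast_toNat hfin).symm, ?_⟩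
  have h0 : lenZ R (N ⧸ Submodule.span R (Set.range y)) = 0 := by
    have : Subsingleton (N ⧸ Submodule.span R (Set.range y)) :=
      Submodule.Quotient.subsingleton_iff.2 hys
    simp [lenZ, Module.length_eq_zero]
  rw [hfg, hord, hrange, h0, sub_zero]
  rfl

end Groth.Agent.CycDetLib
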