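import Groth.Agent.CycDetLib.Dim
import Groth.Agent.CycDetLib.Concat
import Groth.Agent.CycHerb.MinimalPrime
import Groth.Agent.LenLib.OrdFrac
import Groth.Agent.CycHerb.GoodSeq
import Groth.Agent.CycHerb.IndexFormula
import Mathlib.RingTheory.Ideal.Quotient.Operations

/-!
Comparing symbols of good sequences in `M_q` with lengths of cokernels.
-/

set_option autoImplicit false
set_option linter.unusedSectionVars false
set_option linter.style.haveILetI false

namespace Groth.Agent.CycDetLib

open IsLocalRing CycDet Function Groth.Agent.LenLib Pointwise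

universe u

variable {R : Type u} [CommRing R] [IsLocalRing R] [IsNoetherianRing R] (q : PrimeSpectrum R)
  {N : Type u} [AddCommGroup N] [Module R N]

/-- a sequence whose successive quotients are `R/q` -/
structure Good {l : ℕ} (z : Fin l → N) : Prop where
  kill : ∀ i : Fin l, ∀ r ∈ q.asIdeal, r • z i ∈ spanBefore R N z i
  free : ∀ (i : Fin l) (r : R), r • z i ∈ spanBefore R N z i → r ∈ q.asIdeal

/-- the image of a tuple at `q` -/
noncomputable def locT {l : ℕ} (z : Fin l → N) : Fin l → LocalizedModule q.asIdeal.primeCompl N :=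
  fun i => LocalizedModule.mkLinearMap q.asIdeal.primeCompl N (z i)

variable {q}

theorem mem_before_loc {l : ℕ} {z : Fin l → N} {i : ℕ} {m : N} (h : m ∈ spanBefore R N z i) :
    LocalizedModule.mkLinearMap q.asIdeal.primeCompl N m ∈
      spanBefore (Localization.AtPrime q.asIdeal) _ (locT q z) i := by
  induction h using Submodule.span_induction with
  | mem x hx =>
    obtain ⟨j, hj, rfl⟩ := hx
    exact Submodule.subset_span ⟨j, hj, rfl⟩
  | zero => rw [map_zero]; exact zero_mem _
  | add x y _ _ hx hy => rw [map_add]; exact add_mem hx hy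
  | smul r x _ hx => rw [map_smul]; exact Submodule.smul_of_tower_mem _ r hx

theorem exists_of_mem_before_loc {l : ℕ} {z : Fin l → N} {i : ℕ}
    {x : LocalizedModule q.asIdeal.primeCompl N}
    (h : x ∈ spanBefore (Localization.AtPrime q.asIdeal) _ (locT q z) i) :
    ∃ s ∉ q.asIdeal, ∃ m ∈ spanBefore R N z i,
      s • x = LocalizedModule.mkLinearMap q.asIdeal.primeCompl N m := by
  induction h using Submodule.span_induction with
  | mem x hx =>
    obtain ⟨j, hj, rfl⟩ := hx
    exact ⟨1, fun h => q.2.ne_top ((Ideal.eq_top_iff_one _).2 h), z j, Submodule.subset_span ⟨j, hj, rfl⟩,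
      one_smul _ _⟩
  | zero =>
    exact ⟨1, fun h => q.2.ne_top ((Ideal.eq_top_iff_one _).2 h), 0, zero_mem _, by simp⟩
  | add x y _ _ hx hy =>
    obtain ⟨s, hs, m, hm, e⟩ := hx
    obtain ⟨s', hs', m', hm', e'⟩ := hy
    refine ⟨s * s', fun h => (q.2.mem_or_mem h).elim hs hs', s' • m + s • m',
      add_mem (Submodule.smul_mem _ _ hm) (Submodule.smul_mem _ _ hm'), ?_⟩
    rw [map_add, map_smul, map_smul, ← e, ← e', smul_add, mul_smul, mul_smul, smul_comm s s']
  | smul α x _ hx =>
    obtain ⟨s, hs, m, hm, e⟩ := hx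
    obtain ⟨⟨a, t⟩, ht⟩ := IsLocalization.surj q.asIdeal.primeCompl α
    refine ⟨t * s, fun h => (q.2.mem_or_mem h).elim t.2 hs, a • m, Submodule.smul_mem _ _ hm, ?_⟩
    have ht' : (t : R) • (α • s • x) = a • s • x := by
      rw [← IsScalarTower.algebraMap_smul (Localization.AtPrime q.asIdeal) a (s • x), ← ht,
        mul_comm, mul_smul, IsScalarTower.algebraMap_smul]
    rw [map_smul, ← e, ← ht', mul_smul, smul_comm s α]

theorem mk_mem_before_loc {l : ℕ} {z : Fin l → N} {i : ℕ} {m : N}
    (h : LocalizedModule.mkLinearMap q.asIdeal.primeCompl N m ∈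
      spanBefore (Localization.AtPrime q.asIdeal) _ (locT q z) i) :
    ∃ s ∉ q.asIdeal, s • m ∈ spanBefore R N z i := by
  obtain ⟨s, hs, m', hm', e⟩ := exists_of_mem_before_loc h
  rw [← map_smul] at e
  obtain ⟨u, hu⟩ := (IsLocalizedModule.eq_iff_exists q.asIdeal.primeCompl
    (LocalizedModule.mkLinearMap q.asIdeal.primeCompl N)).1 e
  refine ⟨u * s, fun h => (q.2.mem_or_mem h).elim u.2 hs, ?_⟩
  rw [mul_smul]
  exact (show (u : R) • s • m = (u : R) • m' from hu) ▸ Submodule.smul_mem _ _ hm'

theorem maximal_smul_mem {x : LocalizedModule q.asIdeal.primeCompl N}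
    {P : Submodule (Localization.AtPrime q.asIdeal) (LocalizedModule q.asIdeal.primeCompl N)}
    (h : ∀ r ∈ q.asIdeal, r • x ∈ P) {α : Localization.AtPrime q.asIdeal}
    (hα : α ∈ maximalIdeal (Localization.AtPrime q.asIdeal)) : α • x ∈ P := by
  obtain ⟨⟨r, s⟩, hs⟩ := IsLocalization.surj q.asIdeal.primeCompl α
  obtain ⟨v, hv⟩ := (IsLocalization.map_units (Localization.AtPrime q.asIdeal) s).exists_left_inv
  have hr : r ∈ q.asIdeal :=
    (IsLocalization.AtPrime.to_map_mem_maximal_iff (Localization.AtPrime q.asIdeal) q.asIdeal r).1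
      (hs ▸ Ideal.mul_mem_right _ _ hα)
  have hα' : α = v * algebraMap R (Localization.AtPrime q.asIdeal) r := by
    have hs' : α * algebraMap R (Localization.AtPrime q.asIdeal) s = algebraMap R _ r := hs
    calc α = α * (v * algebraMap R (Localization.AtPrime q.asIdeal) s) := by rw [hv, mul_one]
      _ = v * (α * algebraMap R (Localization.AtPrime q.asIdeal) s) := by ring
      _ = _ := by rw [hs']
  rw [hα', mul_smul, IsScalarTower.algebraMap_smul]
  exact P.smul_mem v (h r hr)

theorem Good.adm {l : ℕ} {z : Fin l → N} (hz : Good q z) :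
    IsAdmissible (Localization.AtPrime q.asIdeal) (LocalizedModule q.asIdeal.primeCompl N) (locT q z) := by
  intro i α hα
  refine maximal_smul_mem (fun r hr => ?_) hα
  show r • LocalizedModule.mkLinearMap q.asIdeal.primeCompl N (z i) ∈ _
  rw [← map_smul]
  exact mem_before_loc (hz.kill i r hr)

theorem Good.nondeg {l : ℕ} {z : Fin l → N} (hz : Good q z) :
    Nondeg (Localization.AtPrime q.asIdeal) (locT q z) := fun i h => by
  obtain ⟨s, hs, hm⟩ := mk_mem_before_loc h
  exact hs (hz.free i s hm)

/-- the symbol at `q` -/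
noncomputable def gcls {l : ℕ} {z : Fin l → N} (hz : Good q z) :
    DetOfLen (Localization.AtPrime q.asIdeal) (LocalizedModule q.asIdeal.primeCompl N) l :=
  cls ⟨locT q z, hz.adm⟩

theorem Good.mem_of_smul {l : ℕ} {z : Fin l → N} (hz : Good q z) {s : R} (hs : s ∉ q.asIdeal) {j : ℕ} :
    ∀ (k : ℕ), j ≤ k → ∀ m ∈ spanBefore R N z k, s • m ∈ spanBefore R N z j → m ∈ spanBefore R N z j := by
  intro k
  induction k with
  | zero =>
    intro hj m hm _
    rwa [Nat.le_zero.1 hj]
  | succ k ih =>
    intro hj m hm hsm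
    rcases eq_or_lt_of_le hj with rfl | hlt
    · exact hm
    by_cases hk : k < l
    · rw [show k + 1 = ((⟨k, hk⟩ : Fin l) : ℕ) + 1 from rfl, before_succ] at hm
      obtain ⟨y, hy, _, hw, rfl⟩ := Submodule.mem_sup.1 hm
      obtain ⟨b, rfl⟩ := Submodule.mem_span_singleton.1 hw
      have h1 : (s * b) • z ⟨k, hk⟩ ∈ spanBefore R N z k := by
        have := (spanBefore R N z k).sub_mem (before_mono z (Nat.lt_succ_iff.1 hlt) hsm)
          ((spanBefore R N z k).smul_mem s hy)
        rwa [smul_add, add_sub_cancel_left, smul_smul] at this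
      have hb : b ∈ q.asIdeal := (q.2.mem_or_mem (hz.free ⟨k, hk⟩ _ h1)).resolve_left hs
      exact ih (Nat.lt_succ_iff.1 hlt) _ (add_mem hy (hz.kill ⟨k, hk⟩ b hb)) hsm
    · rw [before_of_ge z (by omega), ← before_of_ge z (i := k) (by omega)] at hm
      exact ih (Nat.lt_succ_iff.1 hlt) m hm hsm

theorem span_loc_eq_top {l : ℕ} {z : Fin l → N}
    (hL : Module.length (Localization.AtPrime q.asIdeal) (LocalizedModule q.asIdeal.primeCompl N) = l)
    (hz : Good q z) (m : N) : ∃ s ∉ q.asIdeal, s • m ∈ Submodule.span R (Set.range z) := by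
  have h := span_eq_top_of_nondeg hL hz.adm hz.nondeg
  rw [← before_of_ge _ (le_refl l)] at h
  have := mk_mem_before_loc (i := l) (show LocalizedModule.mkLinearMap q.asIdeal.primeCompl N m ∈
    spanBefore (Localization.AtPrime q.asIdeal) _ (locT q z) l by rw [h]; trivial)
  rwa [before_of_ge z le_rfl] at this

theorem coker_ne_top [Module.Finite R N] (hq : ringKrullDim (R ⧸ q.asIdeal) = 1)
    (hsupp : ∀ p ∈ Module.support R N, q.asIdeal ≤ p.asIdeal) {l : ℕ} {z : Fin l → N}
    (hL : Module.length (Localization.AtPrime q.asIdeal) (LocalizedModule q.asIdeal.primeCompl N) = l)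
    (hz : Good q z) : Module.length R (N ⧸ Submodule.span R (Set.range z)) ≠ ⊤ := by
  refine CycHerb.length_ne_top_of_support_maximal fun p hp => ?_
  by_contra hpm
  have hqp := hsupp p (Module.support_subset_of_surjective _ (Submodule.mkQ_surjective _) hp)
  have hne : p.asIdeal ≠ q.asIdeal := fun e => by
    rw [Module.mem_support_iff'] at hp
    obtain ⟨m, hm⟩ := hp
    obtain ⟨m, rfl⟩ := Submodule.mkQ_surjective _ m
    obtain ⟨s, hs, hsm⟩ := span_loc_eq_top hL hz m
    refine hm s (e ▸ hs) ?_
    rw [← map_smul]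
    exact (Submodule.Quotient.mk_eq_zero _).2 hsm
  haveI : Ring.KrullDimLE 1 (R ⧸ q.asIdeal) := Ring.krullDimLE_iff.2 hq.le
  have hprime : (p.asIdeal.map (Ideal.Quotient.mk q.asIdeal)).IsPrime :=
    Ideal.map_isPrime_of_surjective Ideal.Quotient.mk_surjective (by rwa [Ideal.mk_ker])
  rcases Ring.krullDimLE_one_iff.1 (inferInstance : Ring.KrullDimLE 1 (R ⧸ q.asIdeal)) _ hprime with h | h
  · rw [IsDomain.minimalPrimes_eq_singleton_bot, Set.mem_singleton_iff, Ideal.map_eq_bot_iff_le_ker,
      Ideal.mk_ker] at h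
    exact hne (le_antisymm h hqp)
  · have := Ideal.comap_isMaximal_of_surjective (Ideal.Quotient.mk q.asIdeal)
      Ideal.Quotient.mk_surjective (K := p.asIdeal.map (Ideal.Quotient.mk q.asIdeal))
    rw [Ideal.comap_map_of_surjective _ Ideal.Quotient.mk_surjective, ← RingHom.ker_eq_comap_bot,
      Ideal.mk_ker, sup_eq_left.2 hqp] at this
    exact hpm this

theorem cls_smul_units {S : Type u} [CommRing S] [IsLocalRing S] {M : Type u} [AddCommGroup M] [Module S M]
    {l : ℕ} (c : Fin l → Sˣ) (e e' : Adm S M l) (h : ∀ i, e'.1 i = (c i : S) • e.1 i) :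
    cls e' = (∏ i, residue S (c i : S)) • cls e := by
  classical
  suffices H : ∀ (s : Finset (Fin l)) (e e' : Adm S M l), (∀ i ∈ s, e'.1 i = (c i : S) • e.1 i) →
      (∀ i ∉ s, e'.1 i = e.1 i) → cls e' = (∏ i ∈ s, residue S (c i : S)) • cls e from
    H Finset.univ e e' (fun i _ => h i) fun i hi => absurd (Finset.mem_univ i) hi
  intro s
  induction s using Finset.induction with
  | empty =>
    intro e e' _ h
    rw [Finset.prod_empty, one_smul]
    congr 1
    exact Subtype.ext (funext fun i => h i (Finset.notMem_empty i))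
  | insert a s ha ih =>
    intro e e' h h'
    have hd : e.1 a - ((c a)⁻¹ : Sˣ).1 • Function.update e.1 a ((c a : S) • e.1 a) a ∈
        spanBefore S M e.1 a := by
      rw [Function.update_self, smul_smul, Units.inv_mul, one_smul, sub_self]
      exact zero_mem _
    have hj : ∀ j, j ≠ a → e.1 j = Function.update e.1 a ((c a : S) • e.1 a) j := fun j hja => by
      rw [Function.update_of_ne hja]
    let e₁ : Adm S M l := ⟨_, adm_scale a _ hj hd e.2⟩
    rw [ih e₁ e' (fun i hi => ?_) (fun i hi => ?_), cls_scale e e₁ a _ hj hd, smul_smul,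
      Finset.prod_insert ha]
    · congr 1
      have h1 : residue S ((c a : S)) * residue S (((c a)⁻¹ : Sˣ) : S) = 1 := by
        rw [← map_mul, Units.mul_inv, map_one]
      linear_combination (-(∏ i ∈ s, residue S (c i : S))) * h1
    · show _ = (c i : S) • Function.update e.1 a _ i
      rw [Function.update_of_ne (by rintro rfl; exact ha hi), h i (Finset.mem_insert_of_mem hi)]
    · show _ = Function.update e.1 a _ i
      by_cases hia : i = a
      · subst hia
        rw [Function.update_self, h i (Finset.mem_insert_self _ _)]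
      · rw [Function.update_of_ne hia, h' i fun hm => (Finset.mem_insert.1 hm).elim hia hi]

theorem Good.smul {l : ℕ} {z : Fin l → N} (hz : Good q z) (c : Fin l → R) (hc : ∀ i, c i ∉ q.asIdeal)
    (hdvd : ∀ i j : Fin l, i < j → c i ∣ c j) : Good q fun i => c i • z i := by
  have hle : ∀ k, spanBefore R N (fun i => c i • z i) k ≤ spanBefore R N z k := fun k =>
    Submodule.span_le.2 (by rintro _ ⟨j, hj, rfl⟩; exact Submodule.smul_mem _ _ (mem_before z hj))
  refine ⟨fun i r hr => ?_, fun i r h => ?_⟩
  · have : ∀ m ∈ spanBefore R N z i, c i • m ∈ spanBefore R N (fun i => c i • z i) i := fun m hm => by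
      refine (Submodule.span_le (s := z '' {j : Fin l | (j : ℕ) < i}) (p := (spanBefore R N (fun i => c i • z i) i).comap
        (LinearMap.lsmul R N (c i)))).2 ?_ hm
      rintro _ ⟨j, hj, rfl⟩
      obtain ⟨d, hd⟩ := hdvd j i hj
      show c i • z j ∈ spanBefore R N (fun i => c i • z i) i
      rw [hd, mul_comm, mul_smul]
      exact Submodule.smul_mem _ _ (mem_before (fun i => c i • z i) hj)
    rw [smul_comm]
    exact this _ (hz.kill i r hr)
  · rw [smul_smul] at h
    exact (q.2.mem_or_mem (hz.free i _ (hle _ h))).resolve_right (hc i)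

variable (q)

/-- same invariant -/
def Same {l : ℕ} (z z' : Fin l → N) : Prop :=
  ∃ (hz : Good q z) (hz' : Good q z') (f : q.asIdeal.ResidueField), f ≠ 0 ∧ gcls hz = f • gcls hz' ∧
    CycAlg.ordFrac (R ⧸ q.asIdeal) q.asIdeal.ResidueField f =
      lenZ R (N ⧸ Submodule.span R (Set.range z)) - lenZ R (N ⧸ Submodule.span R (Set.range z'))

variable {q}

section inv

variable (hq : ringKrullDim (R ⧸ q.asIdeal) = 1)

include hq in
theorem Same.trans {l : ℕ} {z z' z'' : Fin l → N} (h : Same q z z') (h' : Same q z' z'') :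
    Same q z z'' := by
  haveI : Ring.KrullDimLE 1 (R ⧸ q.asIdeal) := Ring.krullDimLE_iff.2 hq.le
  obtain ⟨a, b, f, hf, e, o⟩ := h
  obtain ⟨_, c, g, hg, e', o'⟩ := h'
  refine ⟨a, c, f * g, mul_ne_zero hf hg, by rw [e, mul_smul, ← e'], ?_⟩
  rw [ordFrac_mul hf hg, o, o']
  ring

include hq in
theorem Same.symm {l : ℕ} {z z' : Fin l → N} (h : Same q z z') : Same q z' z := by
  haveI : Ring.KrullDimLE 1 (R ⧸ q.asIdeal) := Ring.krullDimLE_iff.2 hq.le
  obtain ⟨a, b, f, hf, e, o⟩ := h
  refine ⟨b, a, f⁻¹, inv_ne_zero hf, by rw [e, smul_smul, inv_mul_cancel₀ hf, one_smul], ?_⟩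
  have h1 := ordFrac_mul (A := R ⧸ q.asIdeal) (inv_ne_zero hf) hf
  rw [inv_mul_cancel₀ hf, ordFrac_one, o] at h1
  omega

theorem lenZ_quot_sup (c : R) :
    lenZ R (R ⧸ (q.asIdeal ⊔ Ideal.span {c})) = ordZ (Ideal.Quotient.mk q.asIdeal c) := by
  rw [← CycHerb.lenZ_coker_lsmul_quot q.asIdeal c, CycHerb.range_lsmul_eq]
  let ρ : R →ₗ[R] (R ⧸ q.asIdeal) ⧸ (c • ⊤ : Submodule R (R ⧸ q.asIdeal)) :=
    (c • ⊤ : Submodule R (R ⧸ q.asIdeal)).mkQ ∘ₗ Submodule.mkQ q.asIdeal
  have hs : Surjective ρ := (Submodule.mkQ_surjective _).comp (Submodule.mkQ_surjective _)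
  refine lenZ_congr (Submodule.quotEquivOfEq _ _ ?_ ≪≫ₗ ρ.quotKerEquivOfSurjective hs)
  rw [LinearMap.ker_comp, Submodule.ker_mkQ]
  ext x
  rw [Submodule.mem_sup, Submodule.mem_comap, Submodule.mem_smul_pointwise_iff_exists]
  constructor
  · rintro ⟨y, hy, w, hw, rfl⟩
    obtain ⟨b, rfl⟩ := Ideal.mem_span_singleton'.1 hw
    refine ⟨Submodule.Quotient.mk b, trivial, ?_⟩
    rw [Submodule.mkQ_apply, Submodule.Quotient.mk_add, (Submodule.Quotient.mk_eq_zero _).2 hy, zero_add,
      ← Submodule.Quotient.mk_smul, smul_eq_mul, mul_comm]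
  · rintro ⟨y, -, hy⟩
    obtain ⟨b, rfl⟩ := Submodule.Quotient.mk_surjective _ y
    rw [Submodule.mkQ_apply, ← Submodule.Quotient.mk_smul, Submodule.Quotient.eq] at hy
    exact ⟨-(c • b - x), neg_mem hy, c * b, Ideal.mem_span_singleton'.2 ⟨b, mul_comm _ _⟩, by
      rw [smul_eq_mul]; ring⟩

variable [Module.Finite R N] (hsupp : ∀ p ∈ Module.support R N, q.asIdeal ≤ p.asIdeal)

include hq hsupp in
theorem Same.smul {l : ℕ} {z : Fin l → N}
    (hL : Module.length (Localization.AtPrime q.asIdeal) (LocalizedModule q.asIdeal.primeCompl N) = l)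
    (hz : Good q z) (c : Fin l → R) (hc : ∀ i, c i ∉ q.asIdeal)
    (hdvd : ∀ i j : Fin l, i < j → c i ∣ c j) : Same q (fun i => c i • z i) z := by
  haveI : Ring.KrullDimLE 1 (R ⧸ q.asIdeal) := Ring.krullDimLE_iff.2 hq.le
  have hz' := hz.smul c hc hdvd
  set z' : Fin l → N := fun i => c i • z i with hz'def
  have hres : ∀ i, algebraMap R q.asIdeal.ResidueField (c i) ≠ 0 := fun i h =>
    hc i (Ideal.algebraMap_residueField_eq_zero.1 h)
  refine ⟨hz', hz, ∏ i, algebraMap R q.asIdeal.ResidueField (c i),
    Finset.prod_ne_zero_iff.2 fun i _ => hres i, ?_, ?_⟩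
  · exact cls_smul_units (S := Localization.AtPrime q.asIdeal)
      (fun i => (IsLocalization.map_units (Localization.AtPrime q.asIdeal)
        (⟨c i, hc i⟩ : q.asIdeal.primeCompl)).unit) ⟨locT q z, hz.adm⟩ ⟨locT q z', hz'.adm⟩
      fun i => by
        show LocalizedModule.mkLinearMap _ N (c i • z i) = _
        rw [map_smul, IsUnit.unit_spec, IsScalarTower.algebraMap_smul]
        rfl
  -- the length
  let S' := Submodule.span R (Set.range z')
  have hS' : S' ≤ Submodule.span R (Set.range z) :=
    Submodule.span_le.2 (by rintro _ ⟨i, rfl⟩; exact Submodule.smul_mem _ _ (Submodule.subset_span ⟨i, rfl⟩))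
  have hinter : ∀ (k : ℕ) (m : ℕ), k ≤ m → ∀ x ∈ spanBefore R N z' m, x ∈ spanBefore R N z k →
      x ∈ spanBefore R N z' k := by
    intro k m
    induction m with
    | zero => intro hk x hx _; rwa [Nat.le_zero.1 hk]
    | succ m ih =>
      intro hk x hx hxk
      rcases eq_or_lt_of_le hk with rfl | hlt
      · exact hx
      by_cases hm : m < l
      · rw [show m + 1 = ((⟨m, hm⟩ : Fin l) : ℕ) + 1 from rfl, before_succ] at hx
        obtain ⟨y, hy, _, hw, rfl⟩ := Submodule.mem_sup.1 hx
        obtain ⟨b, rfl⟩ := Submodule.mem_span_singleton.1 hw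
        have hle : spanBefore R N z' m ≤ spanBefore R N z m :=
          Submodule.span_le.2 (by rintro _ ⟨j, hj, rfl⟩; exact Submodule.smul_mem _ _ (mem_before z hj))
        have h1 : (b * c ⟨m, hm⟩) • z ⟨m, hm⟩ ∈ spanBefore R N z m := by
          have := (spanBefore R N z m).sub_mem (before_mono z (Nat.lt_succ_iff.1 hlt) hxk) (hle hy)
          rwa [add_sub_cancel_left, smul_smul] at this
        have hb : b ∈ q.asIdeal := (q.2.mem_or_mem (hz.free ⟨m, hm⟩ _ h1)).resolve_right (hc _)
        exact ih (Nat.lt_succ_iff.1 hlt) _ (add_mem hy (hz'.kill ⟨m, hm⟩ b hb)) hxk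
      · rw [before_of_ge z' (by omega), ← before_of_ge z' (i := m) (by omega)] at hx
        exact ih (Nat.lt_succ_iff.1 hlt) x hx hxk
  have hfin : ∀ k, Module.length R (N ⧸ (S' ⊔ spanBefore R N z k)) ≠ ⊤ := fun k =>
    ne_top_of_le_ne_top (coker_ne_top hq hsupp hL hz')
      (Module.length_le_of_surjective (Submodule.factor le_sup_left) (Submodule.factor_surjective le_sup_left))
  have hstep : ∀ k : Fin l, lenZ R (N ⧸ (S' ⊔ spanBefore R N z k)) =
      ordZ (Ideal.Quotient.mk q.asIdeal (c k)) + lenZ R (N ⧸ (S' ⊔ spanBefore R N z ((k : ℕ) + 1))) := by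
    intro k
    let U := S' ⊔ spanBefore R N z k
    let ψ : R →ₗ[R] N ⧸ U := U.mkQ ∘ₗ LinearMap.toSpanSingleton R N (z k)
    have hker : LinearMap.ker ψ = q.asIdeal ⊔ Ideal.span {c k} := by
      ext r
      show (Submodule.Quotient.mk (r • z k) : N ⧸ U) = 0 ↔ _
      rw [Submodule.Quotient.mk_eq_zero]
      constructor
      · intro h
        obtain ⟨s, hs, b, hb, he⟩ := Submodule.mem_sup.1 h
        have hs1 : s ∈ spanBefore R N z ((k : ℕ) + 1) := by
          rw [show s = r • z k - b by rw [← he, add_sub_cancel_right]]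
          exact sub_mem (Submodule.smul_mem _ _ (mem_before z (Nat.lt_succ_self _)))
            (before_mono z (Nat.le_succ _) hb)
        have hs2 := hinter ((k : ℕ) + 1) l k.2 s (by rw [before_of_ge z' le_rfl]; exact hs) hs1
        rw [before_succ] at hs2
        obtain ⟨y, hy, _, hw, rfl⟩ := Submodule.mem_sup.1 hs2
        obtain ⟨a, rfl⟩ := Submodule.mem_span_singleton.1 hw
        have hle : spanBefore R N z' k ≤ spanBefore R N z k :=
          Submodule.span_le.2 (by rintro _ ⟨j, hj, rfl⟩; exact Submodule.smul_mem _ _ (mem_before z hj))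
        have h1 : (r - a * c k) • z k ∈ spanBefore R N z k := by
          rw [sub_smul, ← he, mul_smul]
          rw [show y + a • z' k + b - a • c k • z k = y + b by simp [hz'def]; abel]
          exact add_mem (hle hy) hb
        exact Submodule.mem_sup.2 ⟨r - a * c k, hz.free k _ h1, a * c k,
          Ideal.mem_span_singleton'.2 ⟨a, rfl⟩, sub_add_cancel _ _⟩
      · intro h
        obtain ⟨x, hx, y, hy, rfl⟩ := Submodule.mem_sup.1 h
        obtain ⟨a, rfl⟩ := Ideal.mem_span_singleton'.1 hy
        rw [add_smul, mul_smul]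
        exact add_mem (Submodule.mem_sup_right (hz.kill k x hx))
          (Submodule.mem_sup_left (Submodule.smul_mem _ _ (Submodule.subset_span ⟨k, rfl⟩)))
    let i₁ : (R ⧸ (q.asIdeal ⊔ Ideal.span {c k})) →ₗ[R] N ⧸ U :=
      Submodule.liftQ _ ψ hker.ge
    have hle : U ≤ S' ⊔ spanBefore R N z ((k : ℕ) + 1) :=
      sup_le_sup_left (before_mono z (Nat.le_succ _)) _
    have hi : Injective i₁ := by
      rw [← LinearMap.ker_eq_bot, Submodule.ker_liftQ, hker, Submodule.mkQ_map_self]
    have hex : Exact i₁ (Submodule.factor hle) := by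
      intro x
      obtain ⟨x, rfl⟩ := Submodule.Quotient.mk_surjective _ x
      show (Submodule.Quotient.mk x : N ⧸ _) = 0 ↔ _
      rw [Submodule.Quotient.mk_eq_zero]
      constructor
      · intro h
        obtain ⟨s, hs, b, hb, rfl⟩ := Submodule.mem_sup.1 h
        rw [before_succ] at hb
        obtain ⟨y, hy, _, hw, rfl⟩ := Submodule.mem_sup.1 hb
        obtain ⟨a, rfl⟩ := Submodule.mem_span_singleton.1 hw
        refine ⟨Submodule.Quotient.mk a, ?_⟩
        show (Submodule.Quotient.mk (a • z k) : N ⧸ U) = _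
        rw [Submodule.Quotient.eq, show a • z k - (s + (y + a • z k)) = -(s + y) by abel]
        exact neg_mem (add_mem (Submodule.mem_sup_left hs) (Submodule.mem_sup_right hy))
      · rintro ⟨a, ha⟩
        obtain ⟨a, rfl⟩ := Submodule.Quotient.mk_surjective _ a
        change (Submodule.Quotient.mk (a • z k) : N ⧸ U) = _ at ha
        rw [Submodule.Quotient.eq] at ha
        have := sub_mem (Submodule.mem_sup_right (S := S')
          (Submodule.smul_mem _ a (mem_before z (Nat.lt_succ_self (k : ℕ))))) (hle ha)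
        rwa [sub_sub_cancel] at this
    rw [lenZ_eq_range_add hex (hfin k), lenZ_of_injective hi,
      lenZ_of_surjective (Submodule.factor_surjective hle), lenZ_quot_sup]
  have hsum : ∀ k, k ≤ l → lenZ R (N ⧸ (S' ⊔ spanBefore R N z 0)) =
      ∑ i ∈ Finset.univ.filter (fun i : Fin l => (i : ℕ) < k), ordZ (Ideal.Quotient.mk q.asIdeal (c i)) +
        lenZ R (N ⧸ (S' ⊔ spanBefore R N z k)) := by
    intro k
    induction k with
    | zero => intro _; simp
    | succ k ih =>
      intro hk
      rw [ih (by omega), hstep ⟨k, hk⟩, show Finset.univ.filter (fun i : Fin l => (i : ℕ) < k + 1) =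
        insert ⟨k, hk⟩ (Finset.univ.filter fun i : Fin l => (i : ℕ) < k) by
          ext i; simp [Fin.ext_iff]; omega, Finset.sum_insert (by simp)]
      ring
  have h := hsum l le_rfl
  rw [before_zero, sup_bot_eq, before_of_ge z le_rfl, sup_eq_right.2 hS',
    Finset.filter_true_of_mem fun i _ => i.2] at h
  rw [h, add_sub_cancel_right]
  classical
  have hp : ∀ s : Finset (Fin l), CycAlg.ordFrac (R ⧸ q.asIdeal) q.asIdeal.ResidueField
      (∏ i ∈ s, algebraMap R q.asIdeal.ResidueField (c i)) =
        ∑ i ∈ s, ordZ (Ideal.Quotient.mk q.asIdeal (c i)) := by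
    intro s
    induction s using Finset.induction with
    | empty => simp [ordFrac_one]
    | insert a s ha ih =>
      rw [Finset.prod_insert ha, Finset.sum_insert ha,
        ordFrac_mul (hres a) (Finset.prod_ne_zero_iff.2 fun i _ => hres i), ih,
        IsScalarTower.algebraMap_apply R (R ⧸ q.asIdeal) q.asIdeal.ResidueField,
        Ideal.Quotient.algebraMap_eq q.asIdeal,
        ordFrac_algebraMap fun h => hc a (Ideal.Quotient.eq_zero_iff_mem.1 h)]
  exact hp Finset.univ

include hq in
theorem Same.update {l : ℕ} {z : Fin l → N} (hz : Good q z) (j : Fin l) {w : N}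
    (hw : z j - w ∈ spanBefore R N z j) : Same q (Function.update z j w) z := by
  haveI : Ring.KrullDimLE 1 (R ⧸ q.asIdeal) := Ring.krullDimLE_iff.2 hq.le
  have hj : ∀ i, i ≠ j → z i = Function.update z j w i := fun i hi => by rw [Function.update_of_ne hi]
  have hu : z j - ((1 : Rˣ) : R) • Function.update z j w j ∈ spanBefore R N z j := by
    rwa [Function.update_self, Units.val_one, one_smul]
  have hs := before_scale j 1 hj hu
  have hz' : Good q (Function.update z j w) := by
    refine ⟨fun i r hr => ?_, fun i r h => ?_⟩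
    · rw [← hs]
      by_cases hij : i = j
      · subst hij
        rw [Function.update_self]
        have := sub_mem (hz.kill i r hr) (Submodule.smul_mem _ r hw)
        rwa [smul_sub, sub_sub_cancel] at this
      · rw [← hj i hij]; exact hz.kill i r hr
    · rw [← hs] at h
      refine hz.free i r ?_
      by_cases hij : i = j
      · subst hij
        rw [Function.update_self] at h
        have := add_mem h (Submodule.smul_mem _ r hw)
        rwa [← smul_add, add_sub_cancel] at this
      · rwa [← hj i hij] at h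
  refine ⟨hz', hz, 1, one_ne_zero, ?_, ?_⟩
  · rw [one_smul, gcls, gcls, cls_scale (R := Localization.AtPrime q.asIdeal) (⟨locT q z, hz.adm⟩ : Adm _ _ l)
      ⟨locT q (Function.update z j w), hz'.adm⟩ j 1 (fun i hi => congrArg (LocalizedModule.mkLinearMap q.asIdeal.primeCompl N) (hj i hi)) (by
        show LocalizedModule.mkLinearMap _ N (z j) - _ • LocalizedModule.mkLinearMap _ N (Function.update z j w j) ∈ _
        rw [Units.val_one, one_smul, Function.update_self, ← map_sub]
        exact mem_before_loc hw), Units.val_one, map_one, one_smul]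
  · rw [ordFrac_one, ← before_of_ge (R := R) (Function.update z j w) (le_refl l), ← hs,
      before_of_ge z le_rfl, sub_self]

include hq in
theorem Same.swap {l : ℕ} {z : Fin l → N} (hz : Good q z) {a b : Fin l} (hab : (b : ℕ) + 1 = a)
    (hw : ∀ r ∈ q.asIdeal, r • z a = 0) :
    Same q (z ∘ Equiv.swap a b) z := by
  haveI : Ring.KrullDimLE 1 (R ⧸ q.asIdeal) := Ring.krullDimLE_iff.2 hq.le
  have hz' : Good q (z ∘ Equiv.swap a b) := by
    refine ⟨fun i r hr => ?_, fun i r h => ?_⟩
    · by_cases hia : i = a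
      · subst hia
        rw [Function.comp_apply, Equiv.swap_apply_left, before_swap_mid z hab]
        exact Submodule.mem_sup_left (hz.kill b r hr)
      · by_cases hib : i = b
        · subst hib
          rw [Function.comp_apply, Equiv.swap_apply_right, hw r hr]
          exact zero_mem _
        · rw [before_swap_of_ne z hab (fun h => hia (Fin.ext h)), swap_apply_ne z hia hib]
          exact hz.kill i r hr
    · by_cases hia : i = a
      · subst hia
        rw [Function.comp_apply, Equiv.swap_apply_left, before_swap_mid z hab] at h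
        obtain ⟨y, hy, _, hv, he⟩ := Submodule.mem_sup.1 h
        obtain ⟨t, rfl⟩ := Submodule.mem_span_singleton.1 hv
        have ht : t ∈ q.asIdeal := hz.free i t (by
          rw [show t • z i = r • z b - y by rw [← he, add_sub_cancel_left]]
          exact sub_mem (Submodule.smul_mem _ _ (mem_before z (by omega))) (before_mono z (by omega) hy))
        rw [hw t ht, add_zero] at he
        exact hz.free b r (he ▸ hy)
      · by_cases hib : i = b
        · subst hib
          rw [Function.comp_apply, Equiv.swap_apply_right, before_swap_le z hab le_rfl] at h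
          exact hz.free a r (before_mono z (by omega) h)
        · rw [before_swap_of_ne z hab (fun h => hia (Fin.ext h)), swap_apply_ne z hia hib] at h
          exact hz.free i r h
  refine ⟨hz', hz, -1, neg_ne_zero.2 one_ne_zero, ?_, ?_⟩
  · rw [gcls, gcls, cls_swap (⟨locT q z, hz.adm⟩ : Adm (Localization.AtPrime q.asIdeal) _ l)
      ⟨locT q (z ∘ Equiv.swap a b), hz'.adm⟩ a b hab (fun α hα => ?_) rfl, neg_smul, one_smul, neg_neg]
    refine maximal_smul_mem (fun r hr => ?_) hα
    show r • LocalizedModule.mkLinearMap q.asIdeal.primeCompl N (z a) ∈ _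
    rw [← map_smul, hw r hr, map_zero]
    exact zero_mem _
  · have h1 : CycAlg.ordFrac (R ⧸ q.asIdeal) q.asIdeal.ResidueField (-1) = 0 := by
      have h := ordFrac_mul (A := R ⧸ q.asIdeal) (x := (-1 : q.asIdeal.ResidueField)) (y := -1)
        (neg_ne_zero.2 one_ne_zero) (neg_ne_zero.2 one_ne_zero)
      rw [neg_mul_neg, one_mul, ordFrac_one] at h
      omega
    rw [h1, Set.range_comp, (Equiv.swap a b).surjective.range_eq, Set.image_univ, sub_self]

include hq in
theorem exists_front {l : ℕ} {w : N} (hw : ∀ r ∈ q.asIdeal, r • w = 0) : ∀ (d : ℕ) {z : Fin (l + 1) → N}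
    (a : Fin (l + 1)), (a : ℕ) = d → Good q z → z a = w → ∃ z', Same q z' z ∧ z' 0 = w := by
  haveI : Ring.KrullDimLE 1 (R ⧸ q.asIdeal) := Ring.krullDimLE_iff.2 hq.le
  intro d
  induction d with
  | zero =>
    intro z a ha hz hza
    refine ⟨z, ⟨hz, hz, 1, one_ne_zero, (one_smul _ _).symm, by rw [ordFrac_one, sub_self]⟩, ?_⟩
    rwa [show (0 : Fin (l + 1)) = a from Fin.ext ha.symm]
  | succ d ih =>
    intro z a ha hz hza
    let b : Fin (l + 1) := ⟨d, by omega⟩
    have h := Same.swap hq hz (a := a) (b := b) ha.symm (hza ▸ hw)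
    obtain ⟨z', h', h0⟩ := ih b rfl h.1 (by rw [Function.comp_apply, Equiv.swap_apply_right, hza])
    exact ⟨z', h'.trans hq h, h0⟩

include hq hsupp in
theorem exists_start {l : ℕ} {z' : Fin (l + 1) → N}
    (hL : Module.length (Localization.AtPrime q.asIdeal) (LocalizedModule q.asIdeal.primeCompl N) = (l + 1 : ℕ))
    (hz' : Good q z') {w : N} (hw : ∀ r ∈ q.asIdeal, r • w = 0) (hfree : ∀ r : R, r • w = 0 → r ∈ q.asIdeal)
    (hmem : w ∈ Submodule.span R (Set.range z')) : ∃ z'', Same q z'' z' ∧ z'' 0 = w := by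
  classical
  have hex : ∃ i, w ∈ spanBefore R N z' i := ⟨l + 1, by rwa [before_of_ge z' le_rfl]⟩
  have h0 : Nat.find hex ≠ 0 := fun h => by
    have h1 := Nat.find_spec hex
    rw [h, before_zero, Submodule.mem_bot] at h1
    exact q.2.ne_top ((Ideal.eq_top_iff_one _).2 (hfree 1 (by rw [h1, smul_zero])))
  have hle : Nat.find hex ≤ l + 1 := Nat.find_le (by rwa [before_of_ge z' le_rfl])
  let j : Fin (l + 1) := ⟨Nat.find hex - 1, by omega⟩
  have hj : w ∈ spanBefore R N z' ((j : ℕ) + 1) := by
    rw [show (j : ℕ) + 1 = Nat.find hex by simp [j]; omega]; exact Nat.find_spec hex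
  have hnj : w ∉ spanBefore R N z' j := Nat.find_min hex (show Nat.find hex - 1 < Nat.find hex by omega)
  rw [before_succ] at hj
  obtain ⟨u, hu, _, hv, he⟩ := Submodule.mem_sup.1 hj
  obtain ⟨a, rfl⟩ := Submodule.mem_span_singleton.1 hv
  have ha : a ∉ q.asIdeal := fun h => hnj (he ▸ add_mem hu (hz'.kill j a h))
  let c : Fin (l + 1) → R := fun k => if j ≤ k then a else 1
  have hc : ∀ k, c k ∉ q.asIdeal := fun k => by
    simp only [c]; split_ifs
    exacts [ha, fun h => q.2.ne_top ((Ideal.eq_top_iff_one _).2 h)]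
  have hdvd : ∀ i k : Fin (l + 1), i < k → c i ∣ c k := fun i k hik => by
    simp only [c]; split_ifs with h1 h2 h2
    exacts [dvd_rfl, absurd (h1.trans hik.le) h2, one_dvd _, one_dvd _]
  have hS := Same.smul hq hsupp hL hz' c hc hdvd
  have hb : spanBefore R N (fun i => c i • z' i) j = spanBefore R N z' j := before_congr fun i hi => by
    have : ¬ j ≤ i := not_le.2 hi
    simp [c, this]
  have hU := Same.update hq hS.1 j (w := w) (by
    rw [hb, show c j = a by simp [c], ← he, sub_add_cancel_right]; exact neg_mem hu)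
  obtain ⟨z'', h, h0⟩ := exists_front hq hw j j rfl hU.1 (Function.update_self _ _ _)
  exact ⟨z'', (h.trans hq hU).trans hq hS, h0⟩

end inv

variable (q) in
theorem same_all (hq : ringKrullDim (R ⧸ q.asIdeal) = 1) : ∀ (l : ℕ) (N : Type u) [AddCommGroup N]
    [Module R N] [Module.Finite R N], (∀ p ∈ Module.support R N, q.asIdeal ≤ p.asIdeal) →
    Module.length (Localization.AtPrime q.asIdeal) (LocalizedModule q.asIdeal.primeCompl N) = l →
    ∀ z z' : Fin l → N, Good q z → Good q z' → Same q z z' := by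
  haveI : Ring.KrullDimLE 1 (R ⧸ q.asIdeal) := Ring.krullDimLE_iff.2 hq.le
  intro l
  induction l with
  | zero =>
    intro N _ _ _ _ _ z z' hz hz'
    obtain rfl : z = z' := funext fun i => i.elim0
    exact ⟨hz, hz', 1, one_ne_zero, (one_smul _ _).symm, by rw [ordFrac_one, sub_self]⟩
  | succ l ih =>
    intro N _ _ _ hsupp hL z z' hz hz'
    obtain ⟨s, hs, hsm⟩ := span_loc_eq_top hL hz' (z 0)
    have hS := Same.smul hq hsupp hL hz (fun _ => s) (fun _ => hs) (fun _ _ _ => dvd_rfl)
    have hz1 := hS.1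
    let w := s • z 0
    have hb0 : ∀ x : Fin (l + 1) → N, spanBefore R N x ((0 : Fin (l + 1)) : ℕ) = ⊥ := fun x =>
      before_zero x
    have hwk : ∀ r ∈ q.asIdeal, r • w = 0 := fun r hr => by
      have := hz1.kill 0 r hr
      rwa [hb0, Submodule.mem_bot] at this
    have hwf : ∀ r : R, r • w = 0 → r ∈ q.asIdeal := fun r hr => hz1.free 0 r (by
      rw [hb0, Submodule.mem_bot]; exact hr)
    obtain ⟨z'', hS'', h0⟩ := exists_start hq hsupp hL hz' hwk hwf hsm
    refine ((hS.symm hq).trans hq ?_).trans hq hS''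
    have hz2 := hS''.1
    generalize hz1def : (fun i => s • z i) = z₁ at hz1
    have h1 : z₁ 0 = w := by rw [← hz1def]
    clear hS hS'' hz hz'
    -- pass to the quotient
    let W := Submodule.span R {w}
    have hWker : LinearMap.ker (LinearMap.toSpanSingleton R N w) = q.asIdeal := by
      ext r; exact ⟨hwf r, hwk r⟩
    let eW : W ≃ₗ[R] R ⧸ q.asIdeal :=
      (LinearEquiv.ofEq _ _ (LinearMap.range_toSpanSingleton w).symm).trans
        ((LinearMap.toSpanSingleton R N w).quotKerEquivRange.symm.trans (Submodule.quotEquivOfEq _ _ hWker))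
    have hW1 := length_localized_quotient_eq_one q.asIdeal eW
    have hLq : Module.length (Localization.AtPrime q.asIdeal)
        (LocalizedModule q.asIdeal.primeCompl (N ⧸ W)) = l := by
      have h := length_localized_add q.asIdeal.primeCompl W.subtype W.mkQ W.injective_subtype
        W.mkQ_surjective (LinearMap.exact_subtype_mkQ W)
      rw [hL, hW1, Nat.cast_add, Nat.cast_one, add_comm] at h
      exact (WithTop.add_left_cancel ENat.one_ne_top h).symm
    have hsuppW : ∀ p ∈ Module.support R (N ⧸ W), q.asIdeal ≤ p.asIdeal := fun p hp =>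
      hsupp p (Module.support_subset_of_surjective _ W.mkQ_surjective hp)
    let tl : (Fin (l + 1) → N) → Fin l → N ⧸ W := fun x i => W.mkQ (x i.succ)
    have hbef : ∀ x : Fin (l + 1) → N, x 0 = w → ∀ k : ℕ,
        (spanBefore R (N ⧸ W) (tl x) k).comap W.mkQ = spanBefore R N x (k + 1) := fun x hx k => by
      have e1 : spanBefore R N x (k + 1) = spanBefore R N (fun i : Fin l => x i.succ) k ⊔ W := by
        rw [spanBefore, spanBefore, ← Submodule.span_union]
        congr 1
        ext y
        constructor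
        · rintro ⟨i, hi, rfl⟩
          rcases Fin.eq_zero_or_eq_succ i with rfl | ⟨i, rfl⟩
          · exact Or.inr hx
          · exact Or.inl ⟨i, by simpa using hi, rfl⟩
        · rintro (⟨i, hi, rfl⟩ | rfl)
          · exact ⟨i.succ, by simpa using hi, rfl⟩
          · exact ⟨0, by simp, hx⟩
      have e2 : spanBefore R (N ⧸ W) (tl x) k = (spanBefore R N (fun i : Fin l => x i.succ) k).map W.mkQ := by
        rw [spanBefore, spanBefore, Submodule.map_span, ← Set.image_comp]
        rfl
      rw [e1, e2, Submodule.comap_map_eq, Submodule.ker_mkQ]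
    have htl : ∀ x : Fin (l + 1) → N, x 0 = w → Good q x → Good q (tl x) := fun x hx hg =>
      ⟨fun i r hr => by
        have := hg.kill i.succ r hr
        rw [Fin.val_succ, ← hbef x hx, Submodule.mem_comap, map_smul] at this
        exact this,
      fun i r h => hg.free i.succ r (by
        rw [Fin.val_succ, ← hbef x hx, Submodule.mem_comap, map_smul]; exact h)⟩
    have hspan : ∀ x : Fin (l + 1) → N, x 0 = w →
        lenZ R ((N ⧸ W) ⧸ Submodule.span R (Set.range (tl x))) = lenZ R (N ⧸ Submodule.span R (Set.range x)) :=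
      fun x hx => by
      have e : Submodule.span R (Set.range (tl x)) = (Submodule.span R (Set.range x)).map W.mkQ := by
        rw [← before_of_ge (R := R) x (le_refl (l + 1)), ← hbef x hx l,
          Submodule.map_comap_eq_of_surjective W.mkQ_surjective, before_of_ge (tl x) le_rfl]
      have hWle : W ≤ Submodule.span R (Set.range x) :=
        Submodule.span_le.2 (Set.singleton_subset_iff.2 (Submodule.subset_span ⟨0, hx⟩))
      rw [e]
      exact lenZ_congr (Submodule.quotientQuotientEquivQuotient W _ hWle)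
    obtain ⟨_, _, g, hg, heq, hord⟩ :=
      ih (N ⧸ W) hsuppW hLq (tl z₁) (tl z'') (htl _ h1 hz1) (htl _ h0 hz2)
    rw [hspan _ h1, hspan _ h0] at hord
    refine ⟨hz1, hz2, g, hg, ?_, hord⟩
    -- transport the relation
    let K := LocalizedModule q.asIdeal.primeCompl W
    let f' : K →ₗ[Localization.AtPrime q.asIdeal] LocalizedModule q.asIdeal.primeCompl N :=
      LocalizedModule.map q.asIdeal.primeCompl W.subtype
    let g' : LocalizedModule q.asIdeal.primeCompl N →ₗ[Localization.AtPrime q.asIdeal]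
        LocalizedModule q.asIdeal.primeCompl (N ⧸ W) := LocalizedModule.map q.asIdeal.primeCompl W.mkQ
    have hfg : LinearMap.range f' = LinearMap.ker g' := by
      have h : Function.Exact f' g' := (IsLocalizedModule.map_exact q.asIdeal.primeCompl
        (LocalizedModule.mkLinearMap q.asIdeal.primeCompl W) (LocalizedModule.mkLinearMap q.asIdeal.primeCompl N)
        (LocalizedModule.mkLinearMap q.asIdeal.primeCompl (N ⧸ W)) W.subtype W.mkQ
        (LinearMap.exact_subtype_mkQ W))
      exact h.linearMap_ker_eq.symm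
    have hgs : Surjective g' := IsLocalizedModule.map_surjective q.asIdeal.primeCompl
      (LocalizedModule.mkLinearMap _ N) (LocalizedModule.mkLinearMap _ (N ⧸ W)) W.mkQ W.mkQ_surjective
    choose σ hσ using hgs
    have hmapg : ∀ m, g' (LocalizedModule.mkLinearMap q.asIdeal.primeCompl N m) =
        LocalizedModule.mkLinearMap q.asIdeal.primeCompl (N ⧸ W) (W.mkQ m) := fun m =>
      IsLocalizedModule.map_apply q.asIdeal.primeCompl (LocalizedModule.mkLinearMap _ N)
        (LocalizedModule.mkLinearMap _ (N ⧸ W)) W.mkQ m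
    have hmapf : ∀ m, f' (LocalizedModule.mkLinearMap q.asIdeal.primeCompl W m) =
        LocalizedModule.mkLinearMap q.asIdeal.primeCompl N (m : N) := fun m =>
      IsLocalizedModule.map_apply q.asIdeal.primeCompl (LocalizedModule.mkLinearMap _ W)
        (LocalizedModule.mkLinearMap _ N) W.subtype m
    let w₀ : Fin 1 → W := fun _ => ⟨w, Submodule.mem_span_singleton_self w⟩
    have hw₀ : Good q w₀ := by
      have hbz : ∀ i : Fin 1, spanBefore R W w₀ i = ⊥ := fun i => by
        rw [Subsingleton.elim i 0]; exact before_zero w₀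
      refine ⟨fun i r hr => ?_, fun i r h => hwf r ?_⟩
      · rw [hbz, Submodule.mem_bot]; exact Subtype.ext (hwk r hr)
      · rw [hbz, Submodule.mem_bot] at h; exact congrArg Subtype.val h
    have hK : Module.length (Localization.AtPrime q.asIdeal) K = (1 : ℕ) := by
      rw [Nat.cast_one]; exact hW1
    obtain ⟨F, hF⟩ := exists_lift (respectsRel_concat_right hK hfg (Nat.add_comm 1 l) σ hσ
      ⟨locT q w₀, hw₀.adm⟩)
    have hkey : ∀ (x : Fin (l + 1) → N) (hx : x 0 = w) (hgx : Good q x),
        F (gcls (htl x hx hgx)) = gcls hgx := fun x hx hgx => by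
      rw [gcls, hF]
      refine concat_eq hK hfg (Nat.add_comm 1 l) σ hσ (eK := ⟨locT q w₀, hw₀.adm⟩) hw₀.nondeg
        ⟨locT q (tl x), (htl x hx hgx).adm⟩ ⟨locT q x, hgx.adm⟩ (fun i => ?_) (fun i => ?_)
      · show LocalizedModule.mkLinearMap _ N (x (posL _ i)) = _
        rw [show posL (Nat.add_comm 1 l) i = 0 from Fin.ext (by simp [posL]), hx]
        exact (hmapf (w₀ i)).symm
      · show g' (LocalizedModule.mkLinearMap _ N (x (posR _ i))) = _
        rw [hmapg, show posR (Nat.add_comm 1 l) i = i.succ from Fin.ext (by simp [posR] <;> omega)]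
        rfl
    rw [← hkey z₁ h1 hz1, ← hkey z'' h0 hz2, ← map_smul]
    exact congrArg F heq

end Groth.Agent.CycDetLib
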