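import Groth.Agent.CycDetLib.Span
import Mathlib.LinearAlgebra.Dimension.Finite
import Mathlib.LinearAlgebra.Dimension.FreeAndStrongRankCondition

/-!
The admissible relations: descending maps to the determinant, and the rank bound.
-/

namespace Groth.Agent.CycDetLib

open IsLocalRing CycDet Function

universe u v w

variable {R : Type u} [CommRing R] [IsLocalRing R] {M : Type v} [AddCommGroup M] [Module R M]
  {l : ℕ}

/-- the class of an admissible tuple -/
noncomputable def cls (e : Adm R M l) : DetOfLen R M l := Submodule.Quotient.mk (sym R M e)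

/-- a function on admissible tuples respecting the three admissible relations -/
structure RespectsRel {V : Type w} [AddCommGroup V] [Module (ResidueField R) V]
    (D : Adm R M l → V) : Prop where
  deg : ∀ (e : Adm R M l) (a : Fin l), e.1 a ∈ spanBefore R M e.1 a → D e = 0
  scale : ∀ (e e' : Adm R M l) (a : Fin l) (c : Rˣ), (∀ j, j ≠ a → e.1 j = e'.1 j) →
    e.1 a - (c : R) • e'.1 a ∈ spanBefore R M e.1 a → D e = residue R (c : R) • D e'
  swap : ∀ (e e' : Adm R M l) (a b : Fin l), (b : ℕ) + 1 = (a : ℕ) →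
    (∀ r ∈ maximalIdeal R, r • e.1 a ∈ spanBefore R M e.1 b) →
    e'.1 = e.1 ∘ Equiv.swap a b → D e = - D e'

theorem cls_deg (e : Adm R M l) (a : Fin l) (h : e.1 a ∈ spanBefore R M e.1 a) : cls e = 0 :=
  (Submodule.Quotient.mk_eq_zero _).2 (Submodule.subset_span (Or.inl (Or.inl ⟨e, a, h, rfl⟩)))

theorem cls_scale (e e' : Adm R M l) (a : Fin l) (c : Rˣ) (hj : ∀ j, j ≠ a → e.1 j = e'.1 j)
    (hc : e.1 a - (c : R) • e'.1 a ∈ spanBefore R M e.1 a) :
    cls e = residue R (c : R) • cls e' := by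
  rw [cls, cls, ← Submodule.Quotient.mk_smul, Submodule.Quotient.eq]
  exact Submodule.subset_span (Or.inl (Or.inr ⟨e, e', a, c, hj, hc, rfl⟩))

theorem cls_swap (e e' : Adm R M l) (a b : Fin l) (hab : (b : ℕ) + 1 = a)
    (h : ∀ r ∈ maximalIdeal R, r • e.1 a ∈ spanBefore R M e.1 b)
    (he : e'.1 = e.1 ∘ Equiv.swap a b) : cls e = - cls e' := by
  rw [eq_neg_iff_add_eq_zero, cls, cls, ← Submodule.Quotient.mk_add,
    Submodule.Quotient.mk_eq_zero]
  exact Submodule.subset_span (Or.inr ⟨e, e', a, b, hab, h, he, rfl⟩)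

theorem respectsRel_cls : RespectsRel (cls : Adm R M l → DetOfLen R M l) :=
  ⟨cls_deg, cls_scale, cls_swap⟩

theorem RespectsRel.comp {V W : Type w} [AddCommGroup V] [Module (ResidueField R) V]
    [AddCommGroup W] [Module (ResidueField R) W] {D : Adm R M l → V} (hD : RespectsRel D)
    (f : V →ₗ[ResidueField R] W) : RespectsRel (fun e => f (D e)) :=
  ⟨fun e a h => by rw [hD.deg e a h, map_zero],
    fun e e' a c h h' => by rw [hD.scale e e' a c h h', map_smul],
    fun e e' a b h h' h'' => by rw [hD.swap e e' a b h h' h'', map_neg]⟩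

theorem exists_lift {V : Type w} [AddCommGroup V] [Module (ResidueField R) V]
    {D : Adm R M l → V} (hD : RespectsRel D) :
    ∃ F : DetOfLen R M l →ₗ[ResidueField R] V, ∀ e, F (cls e) = D e := by
  refine ⟨(Submodule.span (ResidueField R) (relSet R M l)).liftQ
    (Finsupp.linearCombination (ResidueField R) D) ?_, fun e => ?_⟩
  · rw [Submodule.span_le]
    rintro x ((⟨e, a, h, rfl⟩ | ⟨e, e', a, c, hj, hc, rfl⟩) | ⟨e, e', a, b, hab, h, he, rfl⟩) <;>
      simp only [SetLike.mem_coe, LinearMap.mem_ker, CycDet.sym, map_sub, map_add, map_smul,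
        Finsupp.linearCombination_single, one_smul]
    · exact hD.deg e a h
    · rw [hD.scale e e' a c hj hc, sub_self]
    · rw [hD.swap e e' a b hab h he, neg_add_cancel]
  · show Finsupp.linearCombination (ResidueField R) D (sym R M e) = D e
    rw [CycDet.sym, Finsupp.linearCombination_single, one_smul]

theorem cls_induction {p : DetOfLen R M l → Prop} (h0 : p 0) (hadd : ∀ x y, p x → p y → p (x + y))
    (h : ∀ (c : ResidueField R) (e : Adm R M l), p (c • cls e)) (x : DetOfLen R M l) : p x := by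
  obtain ⟨y, rfl⟩ := Submodule.Quotient.mk_surjective _ x
  induction y using Finsupp.induction_linear with
  | zero => exact h0
  | add f g hf hg => exact hadd _ _ hf hg
  | single e c =>
    have : Finsupp.single e c = c • sym R M e := by
      rw [CycDet.sym, Finsupp.smul_single, smul_eq_mul, mul_one]
    rw [this, Submodule.Quotient.mk_smul]
    exact h c e

/-- Moving an entry that could stand at position `k` down to position `k`. -/
theorem exists_moveDown (k : Fin l) : ∀ (d : ℕ) (e : Adm R M l) (a : Fin l), (a : ℕ) = k + d →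
    Nondeg R e.1 → (∀ r ∈ maximalIdeal R, r • e.1 a ∈ spanBefore R M e.1 k) →
    ∃ (c : ResidueField R) (e' : Adm R M l), Nondeg R e'.1 ∧ cls e = c • cls e' ∧
      e'.1 k = e.1 a ∧ ∀ j : Fin l, (j : ℕ) < k → e'.1 j = e.1 j := by
  intro d
  induction d with
  | zero =>
    intro e a ha hn _
    have : a = k := Fin.ext (by omega)
    subst this
    exact ⟨1, e, hn, (one_smul _ _).symm, rfl, fun _ _ => rfl⟩
  | succ d ih =>
    intro e a ha hn h
    let b : Fin l := ⟨(k : ℕ) + d, by omega⟩
    have hab : (b : ℕ) + 1 = a := by simp [b]; omega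
    have hb : ∀ r ∈ maximalIdeal R, r • e.1 a ∈ spanBefore R M e.1 b := fun r hr =>
      before_mono e.1 (by simp [b]) (h r hr)
    let e₁ : Adm R M l := ⟨e.1 ∘ Equiv.swap a b, adm_swap hab e.2 hb⟩
    have hlow : ∀ j : Fin l, (j : ℕ) < k → e₁.1 j = e.1 j := fun j hj =>
      swap_apply_ne e.1 (by rintro rfl; omega) (by rintro rfl; simp [b] at hj)
    have h1 : ∀ r ∈ maximalIdeal R, r • e₁.1 b ∈ spanBefore R M e₁.1 k := by
      intro r hr
      rw [before_congr hlow]
      show r • (e.1 ∘ Equiv.swap a b) b ∈ _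
      rw [Function.comp_apply, Equiv.swap_apply_right]
      exact h r hr
    obtain ⟨c, e', hn', hc, hk, hj⟩ :=
      ih e₁ b rfl ((nondeg_swap hab e.2 hb).1 hn) h1
    refine ⟨-c, e', hn', ?_, ?_, fun j hjk => (hj j hjk).trans (hlow j hjk)⟩
    · rw [cls_swap e e₁ a b hab hb rfl, hc, neg_smul]
    · rw [hk]
      show (e.1 ∘ Equiv.swap a b) b = _
      rw [Function.comp_apply, Equiv.swap_apply_right]

theorem exists_enter {e : Fin l → M} {x : M} (he : IsAdmissible R M e)
    (hs : Submodule.span R (Set.range e) = ⊤) {k : ℕ} (hx : x ∉ spanBefore R M e k) :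
    ∃ (a : Fin l) (c : Rˣ), k ≤ a ∧ x - (c : R) • e a ∈ spanBefore R M e a := by
  classical
  have hex : ∃ i, x ∈ spanBefore R M e i :=
    ⟨l, by rw [before_of_ge e le_rfl, hs]; trivial⟩
  have hki : k < Nat.find hex := by
    by_contra hle
    exact hx (before_mono e (not_lt.1 hle) (Nat.find_spec hex))
  have hle : Nat.find hex ≤ l := Nat.find_le (by rw [before_of_ge e le_rfl, hs]; trivial)
  let a : Fin l := ⟨Nat.find hex - 1, by omega⟩
  have ha : x ∉ spanBefore R M e a := Nat.find_min hex (show Nat.find hex - 1 < Nat.find hex by omega)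
  have ha' : x ∈ spanBefore R M e ((a : ℕ) + 1) := by
    rw [show (a : ℕ) + 1 = Nat.find hex by simp [a]; omega]; exact Nat.find_spec hex
  rw [before_succ] at ha'
  obtain ⟨c, hc⟩ := (mem_or_sub_unit_mem (he a) ha').resolve_left ha
  exact ⟨a, c, by simp [a]; omega, hc⟩

/-- Any nondegenerate symbol is a multiple of one agreeing with a given tuple on the first `k`
entries. -/
theorem exists_agree (hM : Module.length R M = l) (e e₀ : Adm R M l) (hn : Nondeg R e.1)
    (h₀ : Nondeg R e₀.1) (k : ℕ) :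
    ∃ (c : ResidueField R) (e' : Adm R M l), Nondeg R e'.1 ∧ cls e = c • cls e' ∧
      ∀ j : Fin l, (j : ℕ) < k → e'.1 j = e₀.1 j := by
  induction k with
  | zero => exact ⟨1, e, hn, (one_smul _ _).symm, fun j hj => absurd hj (Nat.not_lt_zero _)⟩
  | succ k ih =>
    obtain ⟨c, e', hn', hc, hag⟩ := ih
    by_cases hk : k < l
    · have hb : spanBefore R M e'.1 k = spanBefore R M e₀.1 k := before_congr hag
      have hxm : ∀ r ∈ maximalIdeal R, r • e₀.1 ⟨k, hk⟩ ∈ spanBefore R M e'.1 k := fun r hr => by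
        rw [hb]; exact e₀.2 ⟨k, hk⟩ r hr
      have hxk : e₀.1 ⟨k, hk⟩ ∉ spanBefore R M e'.1 k := by rw [hb]; exact h₀ ⟨k, hk⟩
      obtain ⟨a, u, hka, hu⟩ := exists_enter e'.2 (span_eq_top_of_nondeg hM e'.2 hn') hxk
      have hu' : e'.1 a - ((u⁻¹ : Rˣ) : R) • Function.update e'.1 a (e₀.1 ⟨k, hk⟩) a ∈
          spanBefore R M e'.1 a := by
        have := (spanBefore R M e'.1 a).smul_mem (-((u⁻¹ : Rˣ) : R)) hu
        rw [Function.update_self]
        rwa [smul_sub, smul_smul, neg_mul, Units.inv_mul, neg_smul, neg_smul, one_smul, sub_neg_eq_add,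
          neg_add_eq_sub] at this
      have hj : ∀ j, j ≠ a → e'.1 j = Function.update e'.1 a (e₀.1 ⟨k, hk⟩) j := fun j hja => by
        rw [Function.update_of_ne hja]
      let e₁ : Adm R M l := ⟨_, adm_scale a u⁻¹ hj hu' e'.2⟩
      have hlow : ∀ j : Fin l, (j : ℕ) < k → e₁.1 j = e'.1 j := fun j hjk => by
        refine (hj j ?_).symm
        rintro rfl; omega
      obtain ⟨c₂, e₂, hn₂, hc₂, hk₂, hj₂⟩ :=
        exists_moveDown ⟨k, hk⟩ ((a : ℕ) - k) e₁ a (by simp; omega)
          ((nondeg_scale a u⁻¹ hj hu').1 hn') (fun r hr => by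
            show r • Function.update e'.1 a _ a ∈ spanBefore R M e₁.1 k
            rw [Function.update_self, before_congr hlow]
            exact hxm r hr)
      refine ⟨c * (residue R ((u⁻¹ : Rˣ) : R) * c₂), e₂, hn₂, ?_, fun j hjk => ?_⟩
      · rw [hc, cls_scale e' e₁ a u⁻¹ hj hu', hc₂, smul_smul, smul_smul, mul_assoc]
      · rcases Nat.lt_succ_iff_lt_or_eq.1 hjk with hlt | heq
        · rw [hj₂ j hlt, hlow j hlt, hag j hlt]
        · have : j = ⟨k, hk⟩ := Fin.ext heq
          subst this
          rw [hk₂]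
          show Function.update e'.1 a _ a = _
          rw [Function.update_self]
    · exact ⟨c, e', hn', hc, fun j _ => hag j (lt_of_lt_of_le j.2 (not_lt.1 hk))⟩

theorem exists_smul_cls (hM : Module.length R M = l) (e₀ : Adm R M l) (h₀ : Nondeg R e₀.1)
    (x : DetOfLen R M l) : ∃ c : ResidueField R, c • cls e₀ = x := by
  refine cls_induction (p := fun x => ∃ c : ResidueField R, c • cls e₀ = x)
    ⟨0, zero_smul _ _⟩ ?_ ?_ x
  · rintro _ _ ⟨c, rfl⟩ ⟨c', rfl⟩; exact ⟨c + c', add_smul _ _ _⟩
  · intro r e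
    by_cases hn : Nondeg R e.1
    · obtain ⟨c, e', _, hc, hag⟩ := exists_agree hM e e₀ hn h₀ l
      have : e' = e₀ := Subtype.ext (funext fun j => hag j j.2)
      subst this
      exact ⟨r * c, by rw [hc, smul_smul]⟩
    · obtain ⟨a, ha⟩ := not_forall.1 hn
      rw [not_not] at ha
      exact ⟨0, by rw [cls_deg e a ha, smul_zero, zero_smul]⟩

end Groth.Agent.CycDetLib
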