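import Groth.Prelude.Def_CycDet
import Mathlib.RingTheory.LocalRing.Basic
import Mathlib.RingTheory.SimpleModule.Basic
import Mathlib.RingTheory.Artinian.Module

/-!
Spans of initial segments of admissible tuples.
-/

namespace Groth.Agent.CycDetLib

open IsLocalRing CycDet Function

universe u v

variable {R : Type u} [CommRing R] [IsLocalRing R] {M : Type v} [AddCommGroup M] [Module R M]

section span

variable {l : ℕ}

/-- no entry lies in the span of the earlier ones -/
def Nondeg (R : Type u) [CommRing R] [IsLocalRing R] {M : Type v} [AddCommGroup M] [Module R M]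
    {l : ℕ} (e : Fin l → M) : Prop :=
  ∀ i : Fin l, e i ∉ spanBefore R M e i

theorem before_mono (e : Fin l → M) {i j : ℕ} (h : i ≤ j) :
    spanBefore R M e i ≤ spanBefore R M e j :=
  Submodule.span_mono (Set.image_mono fun _ hk => lt_of_lt_of_le hk h)

theorem before_zero (e : Fin l → M) : spanBefore R M e 0 = ⊥ := by
  have : {j : Fin l | (j : ℕ) < 0} = ∅ := by ext j; simp
  rw [spanBefore, this, Set.image_empty, Submodule.span_empty]

theorem before_of_ge (e : Fin l → M) {i : ℕ} (h : l ≤ i) :
    spanBefore R M e i = Submodule.span R (Set.range e) := by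
  have : {j : Fin l | (j : ℕ) < i} = Set.univ := by
    ext j; simpa using lt_of_lt_of_le j.2 h
  rw [spanBefore, this, Set.image_univ]

theorem before_succ (e : Fin l → M) (i : Fin l) :
    spanBefore R M e ((i : ℕ) + 1) = spanBefore R M e i ⊔ Submodule.span R {e i} := by
  have : {j : Fin l | (j : ℕ) < (i : ℕ) + 1} = {j : Fin l | (j : ℕ) < i} ∪ {i} := by
    ext j
    simp only [Set.mem_union, Set.mem_ofPred_eq, Set.mem_singleton_iff]
    refine ⟨fun h => (Nat.lt_succ_iff_lt_or_eq.1 h).imp id (fun e => Fin.ext e), ?_⟩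
    rintro (h | rfl) <;> omega
  rw [spanBefore, this, Set.image_union, Set.image_singleton, Submodule.span_union, spanBefore]

theorem mem_before (e : Fin l → M) {j : Fin l} {i : ℕ} (h : (j : ℕ) < i) :
    e j ∈ spanBefore R M e i :=
  Submodule.subset_span ⟨j, h, rfl⟩

theorem before_congr {e e' : Fin l → M} {i : ℕ} (h : ∀ j : Fin l, (j : ℕ) < i → e j = e' j) :
    spanBefore R M e i = spanBefore R M e' i := by
  unfold spanBefore
  exact congrArg (Submodule.span R) (Set.image_congr h)

theorem before_step_congr {e e' : Fin l → M}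
    (h : ∀ j : Fin l, spanBefore R M e j = spanBefore R M e' j →
      spanBefore R M e j ⊔ Submodule.span R {e j} = spanBefore R M e j ⊔ Submodule.span R {e' j}) :
    ∀ i, spanBefore R M e i = spanBefore R M e' i := by
  intro i
  induction i with
  | zero => rw [before_zero, before_zero]
  | succ i ih =>
    by_cases hi : i < l
    · have := h ⟨i, hi⟩ ih
      have e1 : spanBefore R M e (i + 1) =
          spanBefore R M e i ⊔ Submodule.span R {e ⟨i, hi⟩} := before_succ (R := R) e ⟨i, hi⟩
      have e2 : spanBefore R M e' (i + 1) =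
          spanBefore R M e' i ⊔ Submodule.span R {e' ⟨i, hi⟩} := before_succ (R := R) e' ⟨i, hi⟩
      rw [e1, e2, ← ih]
      exact this
    · rw [before_of_ge (R := R) e (by omega), before_of_ge (R := R) e' (by omega)]
      rwa [before_of_ge (R := R) e (by omega), before_of_ge (R := R) e' (by omega)] at ih

theorem sup_span_eq_of_unit {N : Submodule R M} {x y : M} (c : Rˣ) (h : x - (c : R) • y ∈ N) :
    N ⊔ Submodule.span R {x} = N ⊔ Submodule.span R {y} := by
  refine le_antisymm (sup_le le_sup_left ?_) (sup_le le_sup_left ?_) <;>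
    rw [Submodule.span_le, Set.singleton_subset_iff, SetLike.mem_coe]
  · refine Submodule.mem_sup.2 ⟨_, h, (c : R) • y, ?_, sub_add_cancel _ _⟩
    exact Submodule.smul_mem _ _ (Submodule.mem_span_singleton_self y)
  · refine Submodule.mem_sup.2 ⟨-((↑c⁻¹ : R) • (x - (c : R) • y)),
      neg_mem (N.smul_mem _ h), (↑c⁻¹ : R) • x,
      Submodule.smul_mem _ _ (Submodule.mem_span_singleton_self x), ?_⟩
    rw [smul_sub, smul_smul, Units.inv_mul, one_smul]
    abel

/-- changing one entry by relation (b) does not change any span -/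
theorem before_scale {e e' : Fin l → M} (a : Fin l) (c : Rˣ) (hj : ∀ j, j ≠ a → e j = e' j)
    (hc : e a - (c : R) • e' a ∈ spanBefore R M e a) (i : ℕ) :
    spanBefore R M e i = spanBefore R M e' i := by
  refine before_step_congr (fun j _ => ?_) i
  by_cases hja : j = a
  · subst hja; exact sup_span_eq_of_unit c hc
  · rw [hj j hja]

theorem nondeg_scale {e e' : Fin l → M} (a : Fin l) (c : Rˣ) (hj : ∀ j, j ≠ a → e j = e' j)
    (hc : e a - (c : R) • e' a ∈ spanBefore R M e a) : Nondeg R e ↔ Nondeg R e' := by
  have hs := before_scale a c hj hc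
  refine forall_congr' fun i => not_congr ?_
  rw [← hs i]
  by_cases hia : i = a
  · subst hia
    constructor
    · intro h
      have := (spanBefore R M e i).sub_mem h hc
      rw [sub_sub_cancel] at this
      have h' := (spanBefore R M e i).smul_mem (↑c⁻¹ : R) this
      rwa [smul_smul, Units.inv_mul, one_smul] at h'
    · intro h
      have := (spanBefore R M e i).add_mem hc ((spanBefore R M e i).smul_mem (c : R) h)
      rwa [sub_add_cancel] at this
  · rw [hj i hia]

theorem adm_scale {e e' : Fin l → M} (a : Fin l) (c : Rˣ) (hj : ∀ j, j ≠ a → e j = e' j)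
    (hc : e a - (c : R) • e' a ∈ spanBefore R M e a) (he : IsAdmissible R M e) :
    IsAdmissible R M e' := by
  intro i r hr
  rw [← before_scale a c hj hc i]
  by_cases hia : i = a
  · subst hia
    have := (spanBefore R M e i).smul_mem (↑c⁻¹ : R)
      ((spanBefore R M e i).sub_mem (he i r hr) ((spanBefore R M e i).smul_mem r hc))
    rwa [← smul_sub, sub_sub_cancel, smul_smul, smul_smul,
      show (↑c⁻¹ : R) * r * (c : R) = r by rw [mul_right_comm, Units.inv_mul, one_mul]] at this
  · rw [← hj i hia]; exact he i r hr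

variable {a b : Fin l}

theorem swap_apply_ne (e : Fin l → M) {j : Fin l} (h1 : j ≠ a) (h2 : j ≠ b) :
    (e ∘ Equiv.swap a b) j = e j := by
  rw [Function.comp_apply, Equiv.swap_apply_of_ne_of_ne h1 h2]

theorem before_swap_le (e : Fin l → M) (hab : (b : ℕ) + 1 = a) {i : ℕ} (hi : i ≤ b) :
    spanBefore R M (e ∘ Equiv.swap a b) i = spanBefore R M e i :=
  before_congr fun j hj => swap_apply_ne e (by rintro rfl; omega) (by rintro rfl; omega)

theorem before_swap_mid (e : Fin l → M) (hab : (b : ℕ) + 1 = a) :
    spanBefore R M (e ∘ Equiv.swap a b) a = spanBefore R M e b ⊔ Submodule.span R {e a} := by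
  rw [← hab, before_succ, before_swap_le e hab le_rfl]
  simp

theorem before_swap_ge (e : Fin l → M) (hab : (b : ℕ) + 1 = a) {i : ℕ} (hi : (a : ℕ) < i) :
    spanBefore R M (e ∘ Equiv.swap a b) i = spanBefore R M e i := by
  unfold spanBefore
  congr 1
  ext z
  constructor
  · rintro ⟨j, hj, rfl⟩
    refine ⟨Equiv.swap a b j, ?_, rfl⟩
    show ((Equiv.swap a b j : Fin l) : ℕ) < i
    rw [Equiv.swap_apply_def]
    split_ifs <;> first | omega | exact hj
  · rintro ⟨j, hj, rfl⟩
    refine ⟨Equiv.swap a b j, ?_, by simp⟩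
    show ((Equiv.swap a b j : Fin l) : ℕ) < i
    rw [Equiv.swap_apply_def]
    split_ifs <;> first | omega | exact hj

theorem before_swap_of_ne (e : Fin l → M) (hab : (b : ℕ) + 1 = a) {i : ℕ} (hi : i ≠ a) :
    spanBefore R M (e ∘ Equiv.swap a b) i = spanBefore R M e i := by
  rcases lt_or_gt_of_ne hi with h | h
  · exact before_swap_le e hab (by omega)
  · exact before_swap_ge e hab h

theorem adm_swap {e : Fin l → M} (hab : (b : ℕ) + 1 = a) (he : IsAdmissible R M e)
    (h : ∀ r ∈ maximalIdeal R, r • e a ∈ spanBefore R M e b) :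
    IsAdmissible R M (e ∘ Equiv.swap a b) := by
  intro i r hr
  by_cases hia : i = a
  · subst hia
    rw [before_swap_mid e hab, Function.comp_apply, Equiv.swap_apply_left]
    exact Submodule.mem_sup_left (he b r hr)
  · rw [before_swap_of_ne e hab (fun h => hia (Fin.ext h))]
    by_cases hib : i = b
    · subst hib
      rw [Function.comp_apply, Equiv.swap_apply_right]
      exact h r hr
    · rw [swap_apply_ne e hia hib]; exact he i r hr

theorem mem_or_sub_unit_mem {N : Submodule R M} {x y : M}
    (hy : ∀ r ∈ maximalIdeal R, r • y ∈ N) (hx : x ∈ N ⊔ Submodule.span R {y}) :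
    x ∈ N ∨ ∃ c : Rˣ, x - (c : R) • y ∈ N := by
  obtain ⟨n, hn, z, hz, rfl⟩ := Submodule.mem_sup.1 hx
  obtain ⟨t, rfl⟩ := Submodule.mem_span_singleton.1 hz
  by_cases ht : IsUnit t
  · exact Or.inr ⟨ht.unit, by simpa using hn⟩
  · exact Or.inl (N.add_mem hn (hy t ((mem_maximalIdeal t).2 ht)))

theorem nondeg_swap_aux {e : Fin l → M} (hab : (b : ℕ) + 1 = a) (he : IsAdmissible R M e)
    (h : ∀ r ∈ maximalIdeal R, r • e a ∈ spanBefore R M e b) (hn : Nondeg R e) :
    Nondeg R (e ∘ Equiv.swap a b) := by
  intro i
  by_cases hia : i = a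
  · subst hia
    rw [before_swap_mid e hab, Function.comp_apply, Equiv.swap_apply_left]
    intro hx
    rcases mem_or_sub_unit_mem h hx with h' | ⟨c, hc⟩
    · exact hn b h'
    · refine hn i ?_
      have h1 : e i ∈ spanBefore R M e b ⊔ Submodule.span R {e b} := by
        rw [sup_span_eq_of_unit c hc]
        exact Submodule.mem_sup_right (Submodule.mem_span_singleton_self _)
      rwa [← hab, before_succ]
  · rw [before_swap_of_ne e hab (fun h => hia (Fin.ext h))]
    by_cases hib : i = b
    · subst hib
      rw [Function.comp_apply, Equiv.swap_apply_right]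
      exact fun hx => hn a (before_mono e (by omega) hx)
    · rw [swap_apply_ne e hia hib]; exact hn i

theorem nondeg_swap {e : Fin l → M} (hab : (b : ℕ) + 1 = a) (he : IsAdmissible R M e)
    (h : ∀ r ∈ maximalIdeal R, r • e a ∈ spanBefore R M e b) :
    Nondeg R e ↔ Nondeg R (e ∘ Equiv.swap a b) := by
  refine ⟨nondeg_swap_aux hab he h, fun hn => ?_⟩
  have h' : ∀ r ∈ maximalIdeal R,
      r • (e ∘ Equiv.swap a b) a ∈ spanBefore R M (e ∘ Equiv.swap a b) b := by
    intro r hr
    rw [Function.comp_apply, Equiv.swap_apply_left, before_swap_le e hab le_rfl]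
    exact he b r hr
  have := nondeg_swap_aux hab (adm_swap hab he h) h' hn
  rwa [Function.comp_assoc, ← Equiv.coe_trans, Equiv.swap_swap, Equiv.coe_refl,
    Function.comp_id] at this

end span

section length

variable {l : ℕ}

theorem length_sup_singleton {N : Submodule R M} {x : M} (hx : ∀ r ∈ maximalIdeal R, r • x ∈ N)
    (hxN : x ∉ N) :
    Module.length R ↥(N ⊔ Submodule.span R {x}) = Module.length R N + 1 := by
  have hs : IsSimpleModule R (R ⧸ maximalIdeal R) :=
    isSimpleModule_iff_isCoatom.2 (Ideal.isMaximal_def.1 inferInstance)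
  let g : ↥(N ⊔ Submodule.span R {x}) →ₗ[R] M ⧸ N :=
    N.mkQ ∘ₗ (N ⊔ Submodule.span R {x}).subtype
  let p : R →ₗ[R] M ⧸ N := N.mkQ ∘ₗ LinearMap.toSpanSingleton R M x
  have hk : LinearMap.ker p = maximalIdeal R := by
    refine le_antisymm (le_maximalIdeal ?_) fun r hr => ?_
    · intro h
      have : (1 : R) ∈ LinearMap.ker p := by rw [h]; trivial
      simp [p] at this
      exact hxN this
    · rw [LinearMap.mem_ker]
      exact (Submodule.Quotient.mk_eq_zero N).2 (hx r hr)
  have hr : LinearMap.range g = LinearMap.range p := by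
    rw [LinearMap.range_comp, Submodule.range_subtype, Submodule.map_sup, Submodule.mkQ_map_self,
      bot_sup_eq, LinearMap.range_comp, LinearMap.range_toSpanSingleton]
  have e : LinearMap.range g ≃ₗ[R] (R ⧸ maximalIdeal R) :=
    (LinearEquiv.ofEq _ _ hr).trans (p.quotKerEquivRange.symm.trans
      (Submodule.quotEquivOfEq _ _ hk))
  have : IsSimpleModule R (LinearMap.range g) := IsSimpleModule.congr e
  rw [Module.length_eq_add_of_exact (Submodule.inclusion (le_sup_left (b := Submodule.span R {x})))
    g.rangeRestrict (Submodule.inclusion_injective _) g.surjective_rangeRestrict ?_,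
    Module.length_eq_one_iff.2 this]
  rw [LinearMap.exact_iff, LinearMap.ker_rangeRestrict, LinearMap.ker_comp, Submodule.ker_mkQ,
    Submodule.range_inclusion]

theorem length_before_le {e : Fin l → M} (he : IsAdmissible R M e) (i : ℕ) :
    Module.length R (spanBefore R M e i) ≤ i := by
  induction i with
  | zero => rw [before_zero]; simp
  | succ i ih =>
    by_cases hi : i < l
    · by_cases hd : e ⟨i, hi⟩ ∈ spanBefore R M e i
      · have e1 : spanBefore R M e (i + 1) = spanBefore R M e i := by
          rw [show i + 1 = ((⟨i, hi⟩ : Fin l) : ℕ) + 1 from rfl, before_succ,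
            sup_eq_left, Submodule.span_le, Set.singleton_subset_iff]
          exact hd
        rw [e1]; exact ih.trans (by exact_mod_cast Nat.le_succ i)
      · rw [show i + 1 = ((⟨i, hi⟩ : Fin l) : ℕ) + 1 from rfl, before_succ,
          length_sup_singleton (he ⟨i, hi⟩) hd]
        push_cast
        exact add_le_add_left ih 1
    · rw [before_of_ge (R := R) e (by omega), ← before_of_ge (R := R) e (i := i) (by omega)]
      exact ih.trans (by exact_mod_cast Nat.le_succ i)

theorem length_before_eq {e : Fin l → M} (he : IsAdmissible R M e) (hn : Nondeg R e) {i : ℕ}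
    (hi : i ≤ l) : Module.length R (spanBefore R M e i) = i := by
  induction i with
  | zero => rw [before_zero]; simp
  | succ i ih =>
    rw [show i + 1 = ((⟨i, by omega⟩ : Fin l) : ℕ) + 1 from rfl, before_succ,
      length_sup_singleton (he ⟨i, by omega⟩) (hn _), ih (by omega)]
    push_cast; rfl

theorem eq_top_of_length_eq {N : Submodule R M} {n : ℕ} (hM : Module.length R M = n)
    (hN : Module.length R N = n) : N = ⊤ := by
  have h := Module.length_eq_add_of_exact N.subtype N.mkQ (Submodule.injective_subtype _)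
    (Submodule.mkQ_surjective _) (LinearMap.exact_subtype_mkQ N)
  rw [hM, hN] at h
  have : Module.length R (M ⧸ N) = 0 := by
    by_contra hne
    exact absurd (h.trans (add_comm _ _))
      (ne_of_lt (ENat.lt_add_left (ENat.coe_ne_top n) (pos_iff_ne_zero.2 hne)))
  rwa [Module.length_eq_zero_iff, Submodule.Quotient.subsingleton_iff] at this

theorem span_eq_top_of_nondeg {e : Fin l → M} (hM : Module.length R M = l)
    (he : IsAdmissible R M e) (hn : Nondeg R e) : Submodule.span R (Set.range e) = ⊤ := by
  rw [← before_of_ge (R := R) e le_rfl]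
  exact eq_top_of_length_eq hM (length_before_eq he hn le_rfl)

theorem nondeg_of_span {e : Fin l → M} (hM : Module.length R M = l) (he : IsAdmissible R M e)
    (hs : Submodule.span R (Set.range e) = ⊤) : Nondeg R e := by
  intro a ha
  have key : ∀ i, (a : ℕ) + 1 ≤ i → i ≤ l →
      Module.length R (spanBefore R M e i) ≤ (i - 1 : ℕ) := by
    intro i h1 h2
    induction i, h1 using Nat.le_induction with
    | base =>
      rw [before_succ, sup_eq_left.2 (by rwa [Submodule.span_le, Set.singleton_subset_iff]),
        Nat.add_sub_cancel]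
      exact length_before_le he a
    | succ i h1 ih =>
      have hb := before_succ (R := R) e ⟨i, by omega⟩
      by_cases hd : e ⟨i, by omega⟩ ∈ spanBefore R M e i
      · rw [hb, sup_eq_left.2 (by rwa [Submodule.span_le, Set.singleton_subset_iff])]
        exact (ih (by omega)).trans (by exact_mod_cast (by omega : i - 1 ≤ i + 1 - 1))
      · rw [hb, length_sup_singleton (he ⟨i, by omega⟩) hd]
        refine (add_le_add_left (ih (by omega)) 1).trans ?_
        exact_mod_cast (by omega : i - 1 + 1 ≤ i + 1 - 1)
  have := key l (by omega) le_rfl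
  rw [before_of_ge (R := R) e le_rfl, hs, Module.length_top, hM] at this
  have h2 : l ≤ l - 1 := Nat.cast_le.1 this
  have := a.2
  omega

theorem exists_socle [IsArtinian R M] [Nontrivial M] :
    ∃ s : M, s ≠ 0 ∧ ∀ r ∈ maximalIdeal R, r • s = 0 := by
  obtain ⟨N, hN, hmin⟩ := IsArtinian.set_has_minimal {N : Submodule R M | N ≠ ⊥}
    ⟨⊤, Submodule.nontrivial_iff R |>.2 ‹_› |> fun _ => top_ne_bot⟩
  obtain ⟨x, hxN, hx0⟩ := Submodule.exists_mem_ne_zero_of_ne_bot hN
  refine ⟨x, hx0, fun r hr => ?_⟩
  by_contra hrx
  have hle : Submodule.span R {r • x} ≤ N := by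
    rw [Submodule.span_le, Set.singleton_subset_iff]; exact N.smul_mem r hxN
  have heq : Submodule.span R {r • x} = N :=
    eq_of_le_of_not_lt hle (hmin _ (by simpa using hrx))
  rw [← heq] at hxN
  obtain ⟨t, ht⟩ := Submodule.mem_span_singleton.1 hxN
  have hu : IsUnit (1 - t * r) :=
    isUnit_one_sub_self_of_mem_nonunits _ ((maximalIdeal R).mul_mem_left t hr)
  refine hx0 (hu.smul_eq_zero.1 ?_)
  rw [sub_smul, one_smul, mul_smul, ht, sub_self]

theorem exists_nondeg {n : ℕ} (hM : Module.length R M = n) :
    ∃ e : Fin n → M, IsAdmissible R M e ∧ Nondeg R e := by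
  have hfl : IsFiniteLength R M := Module.length_ne_top_iff.1 (by rw [hM]; exact ENat.coe_ne_top n)
  obtain ⟨_, _⟩ := isFiniteLength_iff_isNoetherian_isArtinian.1 hfl
  suffices ∀ k, k ≤ n → ∃ e : Fin k → M, IsAdmissible R M e ∧ Nondeg R e from this n le_rfl
  intro k hk
  induction k with
  | zero => exact ⟨Fin.elim0, fun i => i.elim0, fun i => i.elim0⟩
  | succ k ih =>
    obtain ⟨e, he, hn⟩ := ih (by omega)
    set N := spanBefore R M e k with hN
    have : Nontrivial (M ⧸ N) := by
      rw [Submodule.Quotient.nontrivial_iff]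
      intro h
      have h' := length_before_eq he hn (le_refl k)
      rw [← hN, h, Module.length_top, hM] at h'
      norm_cast at h'; omega
    obtain ⟨s, hs0, hs⟩ := exists_socle (R := R) (M := M ⧸ N)
    obtain ⟨y, rfl⟩ := Submodule.mkQ_surjective N s
    have hb : ∀ i, i ≤ k → spanBefore R M (Fin.snoc e y : Fin (k + 1) → M) i =
        spanBefore R M e i := by
      intro i hi
      unfold spanBefore
      congr 1
      ext z
      constructor
      · rintro ⟨j, hj, rfl⟩
        have hj' : (j : ℕ) < k := lt_of_lt_of_le hj hi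
        exact ⟨⟨j, hj'⟩, hj, (Fin.snoc_castSucc (α := fun _ => M) y e ⟨j, hj'⟩).symm⟩
      · rintro ⟨j, hj, rfl⟩
        exact ⟨j.castSucc, hj, by rw [Fin.snoc_castSucc]⟩
    refine ⟨Fin.snoc e y, ?_, ?_⟩
    · intro i r hr
      induction i using Fin.lastCases with
      | last =>
        rw [Fin.snoc_last, show ((Fin.last k : Fin (k + 1)) : ℕ) = k from rfl, hb k le_rfl]
        have := hs r hr
        rw [← map_smul] at this
        exact (Submodule.Quotient.mk_eq_zero N).1 this
      | cast i =>
        rw [Fin.snoc_castSucc, show ((i.castSucc : Fin (k + 1)) : ℕ) = i from rfl, hb i (by omega)]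
        exact he i r hr
    · intro i
      induction i using Fin.lastCases with
      | last =>
        rw [Fin.snoc_last, show ((Fin.last k : Fin (k + 1)) : ℕ) = k from rfl, hb k le_rfl]
        exact fun h => hs0 ((Submodule.Quotient.mk_eq_zero N).2 h)
      | cast i =>
        rw [Fin.snoc_castSucc, show ((i.castSucc : Fin (k + 1)) : ℕ) = i from rfl, hb i (by omega)]
        exact hn i

end length

end Groth.Agent.CycDetLib
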